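import Cfsg.Agent.H10.Ru.Even
import Cfsg.Agent.H16.CertArr

/-!
Vectors given as sums of sixteen unit coordinate vectors.
-/

set_option autoImplicit false

namespace Cfsg.Agent.H31.Ru

open Cfsg.Spor Cfsg.Agent.H10.Ru

/-- Flattened index as a pair. -/
def idx (k : Fin 28) : RuIdx := (⟨k.val / 4, by omega⟩, ⟨k.val % 4, by omega⟩)

theorem flat_idx : ∀ k : Fin 28, flat (idx k) = k.val := by decide +kernel

theorem flat_lt : ∀ p : RuIdx, flat p < 28 := by decide +kernel

theorem idx_flat (p : RuIdx) : idx ⟨flat p, flat_lt p⟩ = p := by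
  revert p; decide +kernel

theorem flat_injective : Function.Injective flat := fun p q h => by
  have h1 := idx_flat p
  have h2 := idx_flat q
  rw [← h1, ← h2]
  exact congrArg idx (Fin.ext h)

/-- The four units. -/
def rot (r : ℕ) : GaussianInt :=
  if r % 4 = 0 then 1 else if r % 4 = 1 then gI else if r % 4 = 2 then -1 else -gI

theorem rot_norm (r : ℕ) : (rot r).norm = 1 := by
  unfold rot
  split_ifs <;> rfl

theorem rot_ne_zero (r : ℕ) : rot r ≠ 0 := fun h => by
  have := rot_norm r
  rw [h] at this
  exact absurd this (by decide)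

/-- A unit coordinate vector: atom `4 * p + r` is `i ^ r` at coordinate `p`. -/
def atomVec (a : ℕ) : RuVec := fun q => if flat q = a / 4 then rot a else 0

/-- The atom in slot `k`. -/
def atom (c : ℕ) (k : ℕ) : ℕ := (c >>> (7 * k)) % 128 % 112

/-- The sixteen atoms. -/
def atoms (c : ℕ) : List ℕ := (List.range 16).map (atom c)

/-- The vector of a code. -/
def vecOf (c : ℕ) : RuVec := ((atoms c).map atomVec).sum

theorem length_atoms (c : ℕ) : (atoms c).length = 16 := by simp [atoms]

theorem atom_lt (c k : ℕ) : atom c k < 112 := Nat.mod_lt _ (by norm_num)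

theorem mem_atoms_lt {c a : ℕ} (h : a ∈ atoms c) : a < 112 := by
  obtain ⟨k, -, rfl⟩ := List.mem_map.1 h
  exact atom_lt c k

theorem sum_apply' (l : List RuVec) (p : RuIdx) : l.sum p = (l.map fun v => v p).sum := by
  induction l with
  | nil => rfl
  | cons v l ih => simp [ih]

theorem vecOf_apply (c : ℕ) (p : RuIdx) :
    vecOf c p = ((atoms c).map fun a => atomVec a p).sum := by
  rw [vecOf, sum_apply', List.map_map]
  rfl

/-- Word in the monomial maps. -/
def monoWord : List ℕ → RuVec → RuVec
  | [], v => v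
  | n :: w, v => monoWord w
      ((if n = 0 then ruRj else if n = 1 then ruRk else if n = 2 then ruSign else ruShift) v)

theorem monoWord_mem : ∀ (w : List ℕ) {v : RuVec}, v ∈ ruLattice → monoWord w v ∈ ruLattice
  | [], _, h => h
  | n :: w, v, h => by
    refine monoWord_mem w ?_
    rw [ruLattice, AddSubgroup.mem_sInf] at h ⊢
    intro L hL
    have := hL.2 v (h L hL)
    split_ifs
    exacts [this.2.1, this.2.2.1, this.2.2.2.1, this.2.2.2.2]

theorem table_mem {v : RuVec} (h : v ∈ ruTable) : v ∈ ruLattice := by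
  rw [ruLattice, AddSubgroup.mem_sInf]
  exact fun L hL => hL.1 v h

theorem smul_mem_lattice (z : GaussianInt) {v : RuVec} (hv : v ∈ ruLattice) :
    z • v ∈ ruLattice := by
  have e : z • v = z.re • v + z.im • (gI • v) := by
    funext p
    simp only [Pi.add_apply, Pi.smul_apply, smul_eq_mul]
    ext <;> simp [gI] <;> ring
  rw [e]
  exact add_mem (ruLattice.zsmul_mem hv _) (ruLattice.zsmul_mem (gI_smul_mem_ruLattice hv) _)

end Cfsg.Agent.H31.Ru
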