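import Cfsg.Agent.H31.Ru.Pack

/-!
The kernel computation of Hermitian products.
-/

set_option autoImplicit false

namespace Cfsg.Agent.H31.Ru

open Cfsg.Spor Cfsg.Agent.H10.Ru Cfsg.Agent.H16

theorem digit : ∀ {n : ℕ} (B : ℕ) (g : Fin n → ℕ), (∀ k, g k < B) → ∀ j : Fin n,
    (∑ k, g k * B ^ k.val) / B ^ j.val % B = g j
  | 0, _, _, _, j => j.elim0
  | n + 1, B, g, hg, j => by
    have hB : 0 < B := Nat.pos_of_ne_zero fun h => by have := hg 0; omega
    rw [Fin.sum_univ_succ]
    simp only [Fin.val_zero, pow_zero, mul_one, Fin.val_succ, pow_succ, ← mul_assoc,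
      ← Finset.sum_mul]
    induction j using Fin.cases with
    | zero =>
      rw [Fin.val_zero, pow_zero, Nat.div_one, Nat.add_mul_mod_self_right, Nat.mod_eq_of_lt (hg 0)]
    | succ j =>
      rw [Fin.val_succ, pow_succ', ← Nat.div_div_eq_div_mul, Nat.add_mul_div_right _ _ hB,
        Nat.div_eq_of_lt (hg 0), Nat.zero_add]
      exact digit B (fun k => g k.succ) (fun k => hg _) j

theorem ones56_spec : (Data.ones56 : ℤ) = ∑ q : Fin 28, (1 + 1024) * 1024 ^ (2 * q.val) := by
  decide +kernel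

/-- The biased field of a packed vector. -/
def field (v : RuVec) (q : Fin 28) : ℕ :=
  ((v (idx q)).re + 16).toNat + 1024 * ((v (idx q)).im + 16).toNat

theorem field_lt (d : ℕ) (q : Fin 28) : field (vecOf d) q < 1024 ^ 2 := by
  obtain ⟨a, b⟩ := bnd_vecOf d (idx q)
  rw [abs_le] at a b
  push_cast at a b
  unfold field
  omega

theorem packC_fields (d : ℕ) :
    packC d = ∑ q : Fin 28, field (vecOf d) q * (1024 ^ 2) ^ q.val := by
  apply Int.ofNat_inj.1
  show ((packC d : ℕ) : ℤ) = _
  rw [packC_spec, ones56_spec, P56, Finset.mul_sum, ← Finset.sum_add_distrib, Nat.cast_sum]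
  refine Finset.sum_congr rfl fun q _ => ?_
  obtain ⟨a, b⟩ := bnd_vecOf d (idx q)
  rw [abs_le] at a b
  push_cast at a b
  rw [field, Nat.cast_mul, Nat.cast_add, Nat.cast_mul, Int.toNat_of_nonneg (by omega),
    Int.toNat_of_nonneg (by omega), Nat.cast_pow, Nat.cast_pow, ← pow_mul]
  push_cast
  ring

theorem packC_get (d : ℕ) (q : Fin 28) :
    (((packC d >>> (20 * q.val)) &&& 1023 : ℕ) : ℤ) = (vecOf d (idx q)).re + 16 ∧
      ((((packC d >>> (20 * q.val)) >>> 10) &&& 1023 : ℕ) : ℤ) = (vecOf d (idx q)).im + 16 := by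
  have h : packC d / (1024 ^ 2) ^ q.val % 1024 ^ 2 = field (vecOf d) q := by
    rw [packC_fields]
    exact digit _ _ (field_lt d) q
  have e : packC d >>> (20 * q.val) = packC d / (1024 ^ 2) ^ q.val := by
    rw [Nat.shiftRight_eq_div_pow, show (1024 : ℕ) ^ 2 = 2 ^ 20 by norm_num, ← pow_mul]
  obtain ⟨a, b⟩ := bnd_vecOf d (idx q)
  rw [abs_le] at a b
  push_cast at a b
  rw [show (1023 : ℕ) = 2 ^ 10 - 1 from rfl, Nat.and_two_pow_sub_one_eq_mod,
    Nat.and_two_pow_sub_one_eq_mod, Nat.shiftRight_eq_div_pow (m := packC d >>> (20 * q.val)), e]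
  generalize packC d / (1024 ^ 2) ^ q.val = w at h ⊢
  norm_num [field] at h ⊢
  omega

theorem ip_atom (a : ℕ) (ha : a < 112) (w : RuVec) :
    ip (atomVec a) w = rot a * star (w (idx ⟨a / 4, by omega⟩)) := by
  rw [ip, Finset.sum_eq_single (idx ⟨a / 4, by omega⟩)]
  · rw [atomVec, flat_idx, if_pos rfl]
  · intro p _ hp
    rw [atomVec, if_neg, zero_mul]
    exact fun h => hp (flat_injective (h.trans (flat_idx ⟨a / 4, by omega⟩).symm))
  · simp

theorem keyAtom_spec (d : ℕ) {a : ℕ} (ha : a < 112) :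
    (keyAtom (packC d) a : ℤ) =
      1024 * (ip (atomVec a) (vecOf d)).re + (ip (atomVec a) (vecOf d)).im + 16400 := by
  obtain ⟨hA, hB⟩ := packC_get d ⟨a / 4, by omega⟩
  obtain ⟨a1, b1⟩ := bnd_vecOf d (idx ⟨a / 4, by omega⟩)
  rw [abs_le] at a1 b1
  push_cast at a1 b1
  rw [ip_atom a ha]
  unfold keyAtom
  simp only [forceNat_eq]
  simp only at hA hB
  change ((Bool.rec (Bool.rec (Bool.rec
    (1024 * (32 - ((packC d >>> (20 * (a / 4))) >>> 10 &&& 1023)) +
      (32 - (packC d >>> (20 * (a / 4)) &&& 1023)))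
    (1024 * (32 - (packC d >>> (20 * (a / 4)) &&& 1023)) +
      ((packC d >>> (20 * (a / 4))) >>> 10 &&& 1023))
    (Nat.beq (a % 4) 2))
    (1024 * ((packC d >>> (20 * (a / 4))) >>> 10 &&& 1023) +
      (packC d >>> (20 * (a / 4)) &&& 1023))
    (Nat.beq (a % 4) 1))
    (1024 * (packC d >>> (20 * (a / 4)) &&& 1023) +
      (32 - ((packC d >>> (20 * (a / 4))) >>> 10 &&& 1023)))
    (Nat.beq (a % 4) 0) : ℕ) : ℤ) = _
  generalize hAA : packC d >>> (20 * (a / 4)) &&& 1023 = A at *
  generalize hBB : (packC d >>> (20 * (a / 4))) >>> 10 &&& 1023 = B at *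
  generalize vecOf d (idx ⟨a / 4, by omega⟩) = z at *
  have h4 : a % 4 < 4 := Nat.mod_lt _ (by norm_num)
  have hr : rot a = rot (a % 4) := by unfold rot; rw [Nat.mod_mod]
  rw [hr]
  generalize a % 4 = r at *
  interval_cases r <;> simp [rot, gI, Nat.beq] <;> omega

theorem ip_sum_left (w : RuVec) : ∀ l : List RuVec, ip l.sum w = (l.map fun v => ip v w).sum
  | [] => by simp [ip]
  | v :: l => by
    rw [List.map_cons, List.sum_cons, List.sum_cons, ← ip_sum_left w l]
    simp only [ip, Pi.add_apply, add_mul, Finset.sum_add_distrib]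

/-- The key encodes the product. -/
theorem key_spec (c d : ℕ) : (key c (packC d) : ℤ) = encIP (ip (vecOf c) (vecOf d)) := by
  rw [key, sum16_eq, cast_sum_map, List.map_congr_left fun a ha =>
    show (keyAtom (packC d) a : ℤ) =
      1024 * (ip (atomVec a) (vecOf d)).re + (ip (atomVec a) (vecOf d)).im + 16400 from
        keyAtom_spec d (mem_atoms_lt ha), sum_map_add_const, length_atoms, encIP, vecOf, vecOf,
    ip_sum_left, List.map_map]
  have : ∀ l : List ℕ, (l.map fun a => 1024 * (ip (atomVec a) (vecOf d)).re +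
      (ip (atomVec a) (vecOf d)).im).sum =
        1024 * ((l.map fun a => ip (atomVec a) (vecOf d)).sum).re +
          ((l.map fun a => ip (atomVec a) (vecOf d)).sum).im := by
    intro l
    induction l with
    | nil => simp
    | cons a l ih => simp [ih]; ring
  simp only [vecOf] at this
  rw [this]
  simp [Function.comp_def]

theorem abs_im_ip_le (c d : ℕ) : |(ip (vecOf c) (vecOf d)).im| ≤ 256 := by
  rw [vecOf, ip_sum_left, List.map_map]
  have : ∀ l : List ℕ, (∀ a ∈ l, a < 112) →
      |((l.map ((fun v => ip v (vecOf d)) ∘ atomVec)).sum).im| ≤ 16 * (l.length : ℤ) := by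
    intro l
    induction l with
    | nil => simp
    | cons a l ih =>
      intro h
      obtain ⟨a1, b1⟩ := bnd_vecOf d (idx ⟨a / 4, by have := h a List.mem_cons_self; omega⟩)
      have := ih fun x hx => h x (List.mem_cons_of_mem _ hx)
      simp only [List.map_cons, List.sum_cons, Function.comp_apply, Zsqrtd.im_add,
        ip_atom a (h a List.mem_cons_self), List.length_cons]
      push_cast at a1 b1 ⊢
      refine (abs_add_le _ _).trans ?_
      have h2 : |(rot a * star (vecOf d (idx ⟨a / 4, by have := h a List.mem_cons_self; omega⟩))).im|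
          ≤ 16 := by
        unfold rot
        split_ifs <;> simpa [gI, abs_neg] using (by assumption : |_| ≤ (16 : ℤ))
      linarith
  have h := this (atoms c) fun a ha => mem_atoms_lt ha
  rwa [length_atoms] at h

end Cfsg.Agent.H31.Ru
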