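import Cfsg.Agent.H31.Ru.MinVectors
import Cfsg.Agent.H31.Ru.Key

/-!
Automorphisms of the lattice from matrices of table vectors.
-/

set_option autoImplicit false

namespace Cfsg.Agent.H31.Ru

open Cfsg.Spor Cfsg.Agent.H10.Ru Cfsg.Agent.H16

theorem ip_add_left (u v w : RuVec) : ip (u + v) w = ip u w + ip v w := by
  simp only [ip, Pi.add_apply, add_mul, Finset.sum_add_distrib]

theorem ip_add_right (u v w : RuVec) : ip u (v + w) = ip u v + ip u w := by
  simp only [ip, Pi.add_apply, star_add, mul_add, Finset.sum_add_distrib]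

theorem ip_smul_left (z : GaussianInt) (v w : RuVec) : ip (z • v) w = z * ip v w := by
  simp only [ip, Pi.smul_apply, smul_eq_mul, Finset.mul_sum, mul_assoc]

theorem ip_smul_right (z : GaussianInt) (v w : RuVec) : ip v (z • w) = star z * ip v w := by
  simp only [ip, Pi.smul_apply, smul_eq_mul, star_mul', Finset.mul_sum, mul_left_comm]

theorem ip_sum_right {ι : Type*} (s : Finset ι) (v : RuVec) (f : ι → RuVec) :
    ip v (∑ i ∈ s, f i) = ∑ i ∈ s, ip v (f i) := by
  simp only [ip, Finset.sum_apply, star_sum, Finset.mul_sum]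
  exact Finset.sum_comm

theorem ip_sum_left' {ι : Type*} (s : Finset ι) (v : RuVec) (f : ι → RuVec) :
    ip (∑ i ∈ s, f i) v = ∑ i ∈ s, ip (f i) v := by
  simp only [ip, Finset.sum_apply, Finset.sum_mul]
  exact Finset.sum_comm

theorem re_ip_self (v : RuVec) : (ip v v).re = ruNorm v := by
  have : ∀ s : Finset RuIdx, (∑ p ∈ s, v p * star (v p)).re = ∑ p ∈ s, (v p).norm := by
    intro s
    induction s using Finset.induction_on with
    | empty => simp
    | @insert a s ha ih =>
      rw [Finset.sum_insert ha, Finset.sum_insert ha, Zsqrtd.re_add, ih]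
      simp [Zsqrtd.norm_def]
  exact this _

theorem four_inj {v w : RuVec} (h : (4 : ℕ) • v = (4 : ℕ) • w) : v = w := by
  funext p
  have e := congr_fun h p
  simp only [Pi.smul_apply, nsmul_eq_mul] at e
  exact mul_left_cancel₀ (by decide) e

/-- The orthonormality check. -/
noncomputable def gramOk (col : Nat → Nat) : Bool :=
  allFrom (fun m => forceNat (Nat.div m 28) fun q => forceNat (Nat.mod m 28) fun r =>
    Nat.beq (key (tcode (col q)) (packC (tcode (col r))))
      (Bool.rec 262400 278784 (Nat.beq q r))) 784 0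

/-- The spanning vectors go into the table. -/
noncomputable def spanOk (col : Nat → Nat) (im : Nat → Nat) : Bool :=
  allFrom (fun k => imgEq (colImg fun q => tcode (col q)) (Data.spanAtoms.getD k 0)
    (tcode (im k))) 26 0

/-- Columns given by table indices. -/
noncomputable def colsOf (col : ℕ → ℕ) : ℕ → ℕ := fun q => tcode (col q)

/-- `f` is represented by the columns. -/
def IsRep (col : ℕ → ℕ) (f : Equiv.Perm ruLattice) : Prop :=
  ∀ v : ruLattice, lin col (v : RuVec) = (4 : ℕ) • ((f v : ruLattice) : RuVec)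

theorem ip_gram {col : ℕ → ℕ} (h : gramOk col = true) (q r : Fin 28) :
    ip (vecOf (colsOf col q)) (vecOf (colsOf col r)) = if q = r then 16 else 0 := by
  have hm := allFrom_spec h (28 * q.val + r.val) (Nat.zero_le _) (by omega)
  simp only [forceNat_eq] at hm
  have e1 : Nat.div (28 * q.val + r.val) 28 = q.val := by
    show (28 * q.val + r.val) / 28 = q.val
    omega
  have e2 : Nat.mod (28 * q.val + r.val) 28 = r.val := by
    show (28 * q.val + r.val) % 28 = r.val
    omega
  rw [e1, e2] at hm
  have hk := Nat.eq_of_beq_eq_true hm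
  have hs := key_spec (tcode (col q)) (tcode (col r))
  rw [hk] at hs
  have hb := abs_im_ip_le (tcode (col q)) (tcode (col r))
  rw [abs_le] at hb
  show ip (vecOf (tcode (col q))) (vecOf (tcode (col r))) = _
  by_cases hqr : q = r
  · subst hqr
    rw [Nat.beq_refl] at hs
    simp only [encIP] at hs
    rw [if_pos rfl]
    refine Zsqrtd.ext ?_ ?_ <;> simp <;> omega
  · have : Nat.beq q.val r.val = false := by
      rw [← Bool.not_eq_true]
      exact fun e => hqr (Fin.ext (Nat.eq_of_beq_eq_true e))
    rw [this] at hs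
    simp only [encIP] at hs
    rw [if_neg hqr]
    refine Zsqrtd.ext ?_ ?_ <;> simp <;> omega

theorem norm_lin {col : ℕ → ℕ} (h : gramOk col = true) (v : RuVec) :
    ruNorm (lin (colsOf col) v) = 16 * ruNorm v := by
  have hb : Function.Bijective idx :=
    ⟨fun a b e => Fin.ext (by rw [← flat_idx a, e, flat_idx]), fun p => ⟨_, idx_flat p⟩⟩
  have e : ip (lin (colsOf col) v) (lin (colsOf col) v) = 16 * ip v v := by
    conv_rhs => rw [ip, ← hb.sum_comp, Finset.mul_sum]
    rw [lin, ip_sum_left']
    refine Finset.sum_congr rfl fun q _ => ?_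
    rw [ip_smul_left, ip_sum_right, Finset.sum_eq_single q]
    · rw [ip_smul_right, ip_gram h, if_pos rfl]; ring
    · intro r _ hr
      rw [ip_smul_right, ip_gram h, if_neg (Ne.symm hr), mul_zero]
    · simp
  rw [← re_ip_self, e, ← re_ip_self]
  simp

/-- Stored norms of a multiple by four. -/
theorem norm_four (v : RuVec) : ruNorm ((4 : ℕ) • v) = 16 * ruNorm v := by
  simp only [ruNorm, Finset.mul_sum, Pi.smul_apply, nsmul_eq_mul, Zsqrtd.norm_mul]
  rfl

set_option maxHeartbeats 2000000 in
theorem exists_div {col : ℕ → ℕ} {im : ℕ → ℕ} (hsp : spanOk col im = true)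
    (hc : ∀ q < 28, vecOf (colsOf col q) ∈ ruLattice)
    (him : ∀ k < 26, tvec (im k) ∈ ruLattice) (v : ruLattice) :
    ∃ w ∈ ruLattice, lin (colsOf col) (v : RuVec) = (4 : ℕ) • w := by
  obtain ⟨v, hv⟩ := v
  obtain ⟨d, hd⟩ := exists_coeff (redVec_mem hv)
  set u : RuVec := ∑ j, ∑ k, lift4 (d j * spanCo j k) • spanVec k with hu
  have hdiv : ∀ p, ∃ y : GaussianInt, v p - u p = 4 * y := by
    intro p
    have e := congr_fun hd p
    simp only [Finset.sum_apply, Pi.smul_apply, smul_eq_mul] at e
    have h4 : red4 (v p - u p) = 0 := by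
      rw [map_sub, show red4 (v p) = redVec v p from rfl, e, hu]
      simp only [Finset.sum_apply, Pi.smul_apply, smul_eq_mul, map_sum, map_mul, red4_lift,
        bVec_span, Finset.mul_sum, mul_assoc, sub_self]
    have hre : (((v p - u p).re : ℤ) : ZMod 4) = 0 := congrArg QuadraticAlgebra.re h4
    have him : (((v p - u p).im : ℤ) : ZMod 4) = 0 := congrArg QuadraticAlgebra.im h4
    obtain ⟨a, ha⟩ := (ZMod.intCast_zmod_eq_zero_iff_dvd _ 4).1 hre
    obtain ⟨b, hb⟩ := (ZMod.intCast_zmod_eq_zero_iff_dvd _ 4).1 him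
    refine ⟨⟨a, b⟩, Zsqrtd.ext ?_ ?_⟩
    · rw [ha]; simp
    · rw [hb]; simp
  choose y hy using hdiv
  refine ⟨(∑ j, ∑ k, lift4 (d j * spanCo j k) • tvec (im k)) +
    ∑ q : Fin 28, y (idx q) • vecOf (colsOf col q), ?_, ?_⟩
  · exact add_mem (AddSubgroup.sum_mem _ fun j _ => AddSubgroup.sum_mem _ fun k _ =>
      smul_mem_lattice _ (him k k.isLt)) (AddSubgroup.sum_mem _ fun q _ =>
      smul_mem_lattice _ (hc q q.isLt))
  have hv' : v = u + fun p => 4 * y p := funext fun p => by
    rw [Pi.add_apply, ← hy p]; ring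
  show lin (colsOf col) v = _
  rw [hv', lin_add, smul_add, Finset.smul_sum, Finset.smul_sum]
  congr 1
  · rw [hu]
    simp only [Finset.smul_sum]
    rw [show lin (colsOf col) (∑ j, ∑ k, lift4 (d j * spanCo j k) • spanVec k) =
      ∑ j, ∑ k, lift4 (d j * spanCo j k) • lin (colsOf col) (spanVec k) by
        let L : RuVec →+ RuVec :=
          { toFun := lin (colsOf col), map_zero' := by simp [lin], map_add' := lin_add _ }
        show L _ = _
        simp only [map_sum]
        exact Finset.sum_congr rfl fun j _ => Finset.sum_congr rfl fun k _ => lin_smul _ _ _]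
    refine Finset.sum_congr rfl fun j _ => Finset.sum_congr rfl fun k _ => ?_
    rw [smul_comm (4 : ℕ)]
    congr 1
    exact imgEq_spec (fun _ _ => rfl) (allFrom_spec hsp k.val (Nat.zero_le _) (by simpa using k.isLt))
  · rw [lin]
    refine Finset.sum_congr rfl fun q _ => ?_
    funext p
    simp only [Pi.smul_apply, smul_eq_mul, nsmul_eq_mul]
    push_cast
    ring

/-- A checked matrix gives an automorphism. -/
theorem exists_aut {col : ℕ → ℕ} {im : ℕ → ℕ} (hg : gramOk col = true) (hsp : spanOk col im = true)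
    (hc : ∀ q < 28, vecOf (colsOf col q) ∈ ruLattice)
    (him : ∀ k < 26, tvec (im k) ∈ ruLattice) :
    ∃ f ∈ fourRu, IsRep (colsOf col) f := by
  choose w hw hwe using exists_div hsp hc him
  let g : ruLattice → ruLattice := fun v => ⟨w v, hw v⟩
  have hadd : ∀ a b : ruLattice, g (a + b) = g a + g b := fun a b => Subtype.ext (four_inj (by
    show (4 : ℕ) • w (a + b) = (4 : ℕ) • (w a + w b)
    rw [smul_add, ← hwe, ← hwe, ← hwe, ← lin_add]; rfl))
  have hI : ∀ a : ruLattice, g (ruI a) = ruI (g a) := fun a => Subtype.ext (four_inj (by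
    show (4 : ℕ) • w (ruI a) = (4 : ℕ) • (gI • w a)
    rw [smul_comm, ← hwe, ← hwe, ← lin_smul]; rfl))
  have hnorm : ∀ a : ruLattice, ruNorm ((g a : ruLattice) : RuVec) = ruNorm (a : RuVec) := by
    intro a
    have := norm_lin hg (a : RuVec)
    rw [hwe a, norm_four] at this
    show ruNorm (w a) = _
    omega
  let G : ruLattice →+ ruLattice := AddMonoidHom.mk' g hadd
  have hinj : Function.Injective g := by
    refine (injective_iff_map_eq_zero G).2 fun a ha => ?_
    have := hnorm a
    rw [show g a = 0 from ha] at this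
    simp only [ruNorm, ZeroMemClass.coe_zero, Pi.zero_apply, Zsqrtd.norm_zero,
      Finset.sum_const_zero] at this
    refine Subtype.ext (funext fun p => GaussianInt.norm_eq_zero.mp ?_)
    exact (Finset.sum_eq_zero_iff_of_nonneg fun p _ => GaussianInt.norm_nonneg _).1 this.symm p
      (Finset.mem_univ _)
  have hsurj : Function.Surjective g := by
    intro b
    set S := {a : ruLattice | ruNorm (a : RuVec) = ruNorm (b : RuVec)} with hS
    have hfin : S.Finite := by
      set n := ruNorm (b : RuVec)
      have hbox : (Set.univ.pi fun _ : RuIdx => {z : GaussianInt | z.norm ≤ n}).Finite := by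
        refine Set.Finite.pi fun _ => ?_
        refine Set.Finite.subset (((Set.finite_Icc (-n) n).prod (Set.finite_Icc (-n) n)).image
          fun ab : ℤ × ℤ => (⟨ab.1, ab.2⟩ : GaussianInt)) ?_
        intro z (hz : z.norm ≤ n)
        rw [two_norm] at hz
        exact ⟨(z.re, z.im), ⟨⟨by nlinarith, by nlinarith⟩, ⟨by nlinarith, by nlinarith⟩⟩, rfl⟩
      refine (hbox.preimage Subtype.val_injective.injOn).subset fun a ha p _ => ?_
      show (((a : RuVec)) p).norm ≤ n
      rw [← show ruNorm (a : RuVec) = n from ha]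
      exact Finset.single_le_sum (f := fun p => ((a : RuVec) p).norm)
        (fun p _ => GaussianInt.norm_nonneg _) (Finset.mem_univ p)
    have := ((hfin.injOn_iff_bijOn_of_mapsTo (f := g)
      fun a (ha : ruNorm (a : RuVec) = _) => (hnorm a).trans ha).1 hinj.injOn).surjOn
    obtain ⟨a, -, ha⟩ := this (show b ∈ S from rfl)
    exact ⟨a, ha⟩
  refine ⟨Equiv.ofBijective g ⟨hinj, hsurj⟩, ⟨hadd, hI, hnorm⟩, fun v => hwe v⟩

theorem smul_eq {f : Equiv.Perm ruLattice} (hf : f ∈ fourRu) (z : GaussianInt) (v : ruLattice) :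
    ((f ⟨z • (v : RuVec), smul_mem_lattice z v.2⟩ : ruLattice) : RuVec) =
      z • ((f v : ruLattice) : RuVec) := by
  let F : ruLattice →+ ruLattice := AddMonoidHom.mk' f hf.1
  have e : (⟨z • (v : RuVec), smul_mem_lattice z v.2⟩ : ruLattice) = z.re • v + z.im • ruI v := by
    refine Subtype.ext ?_
    funext p
    simp only [AddSubgroup.coe_add, AddSubgroup.coe_zsmul, ruI, Pi.add_apply, Pi.smul_apply,
      smul_eq_mul]
    ext <;> simp [gI] <;> ring
  have e2 : f ⟨z • (v : RuVec), smul_mem_lattice z v.2⟩ = z.re • f v + z.im • ruI (f v) := by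
    rw [e, show f (z.re • v + z.im • ruI v) = F (z.re • v + z.im • ruI v) from rfl, map_add,
      map_zsmul, map_zsmul, ← hf.2.1]
    rfl
  rw [e2]
  funext p
  simp only [AddSubgroup.coe_add, AddSubgroup.coe_zsmul, ruI, Pi.add_apply, Pi.smul_apply,
    smul_eq_mul]
  ext <;> simp [gI] <;> ring

/-- Automorphisms preserve the Hermitian product. -/
theorem ip_map {f : Equiv.Perm ruLattice} (hf : f ∈ fourRu) (v w : ruLattice) :
    ip ((f v : ruLattice) : RuVec) ((f w : ruLattice) : RuVec) = ip (v : RuVec) (w : RuVec) := by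
  have hre : ∀ a b : ruLattice,
      (ip ((f a : ruLattice) : RuVec) ((f b : ruLattice) : RuVec)).re =
        (ip (a : RuVec) (b : RuVec)).re := by
    intro a b
    have h := hf.2.2 (a + b)
    rw [hf.1] at h
    have key : ∀ x y : RuVec, ruNorm (x + y) = ruNorm x + ruNorm y + 2 * (ip x y).re := by
      intro x y
      rw [← re_ip_self, ← re_ip_self, ← re_ip_self]
      have hsym : (ip y x).re = (ip x y).re := by
        have : ip y x = star (ip x y) := by
          simp only [ip, star_sum, star_mul', star_star]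
          exact Finset.sum_congr rfl fun p _ => mul_comm _ _
        rw [this, Zsqrtd.re_star]
      simp only [ip_add_left, ip_add_right, Zsqrtd.re_add]
      omega
    simp only [AddSubgroup.coe_add, key, hf.2.2] at h
    omega
  refine Zsqrtd.ext (hre v w) ?_
  have h := hre v (ruI w)
  rw [hf.2.1] at h
  simp only [ruI, ip_smul_right] at h
  simpa [gI] using h

end Cfsg.Agent.H31.Ru
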