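import Cfsg.Agent.H31.Ru.ConnDefs

/-!
The connection certificate.
-/

set_option autoImplicit false
set_option maxRecDepth 100000

namespace Cfsg.Agent.H31.Ru

theorem conn_cert : connOk = true := by decide +kernel

end Cfsg.Agent.H31.Ru
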