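import Cfsg.Agent.H31.Ru.LineDefs

/-!
The certificate for the action on lines.
-/

set_option autoImplicit false
set_option maxRecDepth 100000

namespace Cfsg.Agent.H31.Ru

theorem lines_cert : linesOk = true := by decide +kernel

theorem ext_cert0 : extOk 0 Data.extTarget0 Cfsg.Agent.H56.RuTits.g0P = true := by decide +kernel

theorem ext_cert1 : extOk 1 Data.extTarget1 Cfsg.Agent.H56.RuTits.g1P = true := by decide +kernel

end Cfsg.Agent.H31.Ru
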