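import Cfsg.Agent.H31.Ru.OrbitDefs

/-!
A part of the stabiliser chain certificate.
-/

set_option autoImplicit false
set_option maxRecDepth 100000

namespace Cfsg.Agent.H31.Ru

theorem size_cert : ([classSize 0, classSize 1, classSize 2, classSize 3, classSize 4] : List Nat) = [16240, 2304, 975, 8, 2] := by decide +kernel

end Cfsg.Agent.H31.Ru
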