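import Cfsg.Agent.H31.Ru.OrbitDefs

/-!
The small checks of the stabiliser chain certificate.
-/

set_option autoImplicit false
set_option maxRecDepth 100000

namespace Cfsg.Agent.H31.Ru

open Cfsg.Agent.H16

theorem tab_cert : allFrom (fun g => and (tabOk g) (fixOk g)) 5 0 = true := by decide +kernel

theorem basePack_cert :
    allFrom (fun j => Nat.beq (bP basePack j) (packC (tcode (bpt j)))) 5 0 = true := by decide +kernel

theorem kPack_cert :
    allFrom (fun k => allFrom (fun j => Nat.beq (bitField (kPack basePack k) (Nat.mul 32 j) 32)
      (key (tcode (bpt k)) (packC (tcode (bpt j))))) 5 0) 5 0 = true := by decide +kernel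

theorem uPack_cert :
    allFrom (fun m => Nat.beq (bitField (uPack basePack) (Nat.mul 160 m) 160)
      (tuple basePack (upt m))) 28 0 = true := by decide +kernel

theorem strong_cert : allFrom (fun g => Nat.beq (gnode g) (Data.strong.getD g 0)) 5 0 = true := by
  decide +kernel

end Cfsg.Agent.H31.Ru
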