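import Cfsg.Agent.H31.Ru.CertUniq0
import Cfsg.Agent.H31.Ru.CertUniq1
import Cfsg.Agent.H31.Ru.CertUniq2
import Cfsg.Agent.H31.Ru.CertUniq3

/-!
The spanning points are determined by their keys.
-/

set_option autoImplicit false

namespace Cfsg.Agent.H31.Ru

theorem uniq_cert (i : Nat) (hi : i < 16240) : uniqRow i = true := by
  by_cases h0a : i < 2030
  · exact uniqRow_of_block uniq_cert0a (by omega) (by omega)
  by_cases h0b : i < 4060
  · exact uniqRow_of_block uniq_cert0b (by omega) (by omega)
  by_cases h1a : i < 6090
  · exact uniqRow_of_block uniq_cert1a (by omega) (by omega)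
  by_cases h1b : i < 8120
  · exact uniqRow_of_block uniq_cert1b (by omega) (by omega)
  by_cases h2a : i < 10150
  · exact uniqRow_of_block uniq_cert2a (by omega) (by omega)
  by_cases h2b : i < 12180
  · exact uniqRow_of_block uniq_cert2b (by omega) (by omega)
  by_cases h3a : i < 14210
  · exact uniqRow_of_block uniq_cert3a (by omega) (by omega)
  by_cases h3b : i < 16240
  · exact uniqRow_of_block uniq_cert3b (by omega) (by omega)
  omega

end Cfsg.Agent.H31.Ru
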