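import Cfsg.Agent.H31.Ru.Table

/-!
The spanning points span.
-/

set_option autoImplicit false
set_option maxRecDepth 100000

namespace Cfsg.Agent.H31.Ru

open Cfsg.Spor Cfsg.Agent.H10.Ru Cfsg.Agent.H16

theorem upt_lt (m : ℕ) : upt m < 16240 := by
  rcases lt_or_ge m 28 with hm | hm
  · have : ∀ m : Fin 28, upt m < 16240 := by decide +kernel
    exact this ⟨m, hm⟩
  · rw [upt, List.getD_eq_default _ _ (show Data.uniq.length ≤ m from hm)]
    norm_num

/-- A coefficient. -/
def spanC (q k : Fin 28) : GaussianInt :=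
  ⟨((Data.spanNum.getD q []).getD k (0, 0)).1, ((Data.spanNum.getD q []).getD k (0, 0)).2⟩

/-- A denominator. -/
def spanD (q : Fin 28) : GaussianInt := ⟨Data.spanDen.getD q 0, 0⟩

set_option maxHeartbeats 4000000 in
theorem span_inv : ∀ q p : Fin 28,
    ∑ k, spanC q k * tvec (upt k) (idx p) = if p = q then spanD q else 0 := by
  decide +kernel

theorem spanD_ne : ∀ q, spanD q ≠ 0 := by decide +kernel

/-- An automorphism fixing the axial vectors is trivial. -/
theorem eq_one_of_axes {f : Equiv.Perm ruLattice} (hf : f ∈ fourRu)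
    (hfix : ∀ q : Fin 28, f (tL (4 * q.val)) = tL (4 * q.val)) : f = 1 := by
  let F : ruLattice →+ ruLattice := AddMonoidHom.mk' f hf.1
  have hax : ∀ q : Fin 28, ((f (tL (4 * q.val)) : ruLattice) : RuVec) = tvec (4 * q.val) := fun q => by
    rw [hfix q, tL_val (by omega)]
  ext1 v
  have h4 : (4 : ℕ) • v = ∑ q : Fin 28, ⟨(v : RuVec) (idx q) • ((tL (4 * q.val) : ruLattice) : RuVec),
      smul_mem_lattice _ (tL (4 * q.val)).2⟩ := by
    apply Subtype.ext
    rw [AddSubgroup.val_finset_sum, AddSubgroup.coe_nsmul]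
    refine ((show lin (fun q => tcode (4 * q)) (v : RuVec) = (4 : ℕ) • (v : RuVec) from
      rep_one v).symm).trans ?_
    exact Finset.sum_congr rfl fun q _ => by
      show _ = (v : RuVec) (idx q) • ((tL (4 * q.val) : ruLattice) : RuVec)
      rw [tL_val (by omega : 4 * q.val < 16240)]; rfl
  have h : ((f ((4 : ℕ) • v) : ruLattice) : RuVec) = (((4 : ℕ) • v : ruLattice) : RuVec) := by
    rw [h4, show f (∑ q : Fin 28, (⟨(v : RuVec) (idx q) • ((tL (4 * q.val) : ruLattice) : RuVec),
      smul_mem_lattice _ (tL (4 * q.val)).2⟩ : ruLattice)) = F _ from rfl, map_sum,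
      AddSubgroup.val_finset_sum, AddSubgroup.val_finset_sum]
    exact Finset.sum_congr rfl fun q _ => by
      rw [show F _ = f _ from rfl, smul_eq hf, hax q]
      show _ = (v : RuVec) (idx q) • ((tL (4 * q.val) : ruLattice) : RuVec)
      rw [tL_val (by omega : 4 * q.val < 16240)]
  rw [show f ((4 : ℕ) • v) = F ((4 : ℕ) • v) from rfl, map_nsmul, AddSubgroup.coe_nsmul,
    AddSubgroup.coe_nsmul] at h
  exact Subtype.ext (four_inj h)

/-- An automorphism fixing the spanning points is trivial. -/
theorem eq_one_of_fix {f : Equiv.Perm ruLattice} (hf : f ∈ fourRu)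
    (hfix : ∀ m : Fin 28, f (tL (upt m)) = tL (upt m)) : f = 1 := by
  let F : ruLattice →+ ruLattice := AddMonoidHom.mk' f hf.1
  have hax : ∀ q : Fin 28, ((f (tL (4 * q.val)) : ruLattice) : RuVec) = tvec (4 * q.val) := by
    intro q
    have hq : 4 * q.val < 16240 := by omega
    have hsum : (⟨spanD q • ((tL (4 * q.val) : ruLattice) : RuVec),
        smul_mem_lattice _ (tL (4 * q.val)).2⟩ : ruLattice) =
        ∑ k : Fin 28, ⟨(4 * spanC q k) • ((tL (upt k) : ruLattice) : RuVec),
          smul_mem_lattice _ (tL (upt k)).2⟩ := by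
      apply Subtype.ext
      rw [AddSubgroup.val_finset_sum]
      funext r
      obtain ⟨p, rfl⟩ : ∃ p, idx p = r := ⟨_, idx_flat r⟩
      simp only [Finset.sum_apply, Pi.smul_apply, smul_eq_mul]
      rw [tL_val hq, axial_vec]
      simp only [tL_val (upt_lt _), mul_assoc, ← Finset.mul_sum, span_inv]
      have hpq : idx p = idx q ↔ p = q :=
        ⟨fun e => Fin.ext (by rw [← flat_idx p, e, flat_idx]), fun e => e ▸ rfl⟩
      simp only [hpq]
      split_ifs <;> ring
    have h := congrArg (fun x => ((f x : ruLattice) : RuVec)) hsum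
    try dsimp only at h
    rw [smul_eq hf, show f (∑ k : Fin 28, (⟨(4 * spanC q k) • ((tL (upt k) : ruLattice) : RuVec),
        smul_mem_lattice _ (tL (upt k)).2⟩ : ruLattice)) = F _ from rfl, map_sum,
      AddSubgroup.val_finset_sum] at h
    have h' := congrArg Subtype.val hsum
    rw [AddSubgroup.val_finset_sum] at h'
    rw [Finset.sum_congr rfl fun k _ => show ((F ⟨(4 * spanC q k) • ((tL (upt k) : ruLattice) : RuVec),
        smul_mem_lattice _ (tL (upt k)).2⟩ : ruLattice) : RuVec) =
          (4 * spanC q k) • ((tL (upt k) : ruLattice) : RuVec) by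
        rw [show F _ = f _ from rfl, smul_eq hf, hfix], ← h'] at h
    funext r
    have e := congr_fun h r
    simp only [Pi.smul_apply, smul_eq_mul] at e
    rw [mul_left_cancel₀ (spanD_ne q) e, tL_val hq]
  exact eq_one_of_axes hf fun q => Subtype.ext ((hax q).trans (tL_val (by omega)).symm)

end Cfsg.Agent.H31.Ru
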