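import Cfsg.Agent.H31.Ru.Table
import Cfsg.Agent.H31.Ru.CertTree12
import Cfsg.Agent.H31.Ru.CertTree34
import Cfsg.Agent.H31.Ru.CertSize
import Cfsg.Agent.H31.Ru.CertUniq
import Cfsg.Agent.H31.Ru.SpanInv

/-!
The stabiliser chain of the automorphism group.
-/

set_option autoImplicit false

namespace Cfsg.Agent.H31.Ru

open Cfsg.Spor Cfsg.Agent.H10.Ru Cfsg.Agent.H16

/-- Base vector. -/
noncomputable def bL (k : ℕ) : ruLattice := tL (bpt k)

theorem bpt_lt : ∀ k, bpt k < 16240 := by
  intro k
  rcases lt_or_ge k 5 with hk | hk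
  · have : ∀ k : Fin 5, bpt k < 16240 := by decide +kernel
    exact this ⟨k, hk⟩
  · rw [bpt, List.getD_eq_default _ _ (show Data.basePts.length ≤ k from hk)]
    norm_num

/-- The class of a base point. -/
def InCls (k i : ℕ) : Prop :=
  ∀ j < k, ip ((tL i : ruLattice) : RuVec) ((bL j : ruLattice) : RuVec) =
    ip ((bL k : ruLattice) : RuVec) ((bL j : ruLattice) : RuVec)

theorem allFrom_intro {p : ℕ → Bool} : ∀ {n lo : ℕ}, (∀ i, lo ≤ i → i < lo + n → p i = true) →
    allFrom p n lo = true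
  | 0, _, _ => rfl
  | n + 1, lo, h => by
    rw [allFrom_succ, Bool.and_eq_true]
    exact ⟨h lo le_rfl (by omega), allFrom_intro fun i h1 h2 => h i (by omega) (by omega)⟩

theorem key_eq_iff {i i' j : ℕ} :
    key (tcode i) (packC (tcode j)) = key (tcode i') (packC (tcode j)) ↔
      ip (tvec i) (tvec j) = ip (tvec i') (tvec j) := by
  have h1 := key_spec (tcode i) (tcode j)
  have h2 := key_spec (tcode i') (tcode j)
  constructor
  · intro e
    rw [e, h2] at h1
    have a := abs_le.1 (abs_im_ip_le (tcode i) (tcode j))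
    have b := abs_le.1 (abs_im_ip_le (tcode i') (tcode j))
    simp only [encIP] at h1
    exact Zsqrtd.ext (by unfold tvec; omega) (by unfold tvec; omega)
  · intro e
    refine Int.ofNat_inj.1 (h1.trans ?_)
    rw [show ip (vecOf (tcode i)) (vecOf (tcode j)) = ip (vecOf (tcode i')) (vecOf (tcode j)) from e]
    exact h2.symm

theorem nat_beq_iff (a b : ℕ) : Nat.beq a b = true ↔ a = b :=
  ⟨Nat.eq_of_beq_eq_true, fun e => e ▸ Nat.beq_refl a⟩

theorem countFrom_range (p : ℕ → Bool) (n : ℕ) :
    countFrom p n 0 = ((Finset.range n).filter fun i => p i = true).card := by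
  rw [countFrom_spec, Nat.zero_add, Finset.range_eq_Ico]

theorem classSize_eq (k : ℕ) : classSize k = ((Finset.range 16240).filter fun i =>
    inClassW basePack (kPack basePack k) k i = true).card := by
  unfold classSize
  rw [forceNat_eq, forceNat_eq]
  exact countFrom_range _ _

theorem inClass_iff {k i : ℕ} (hk : k < 5) (hi : i < 16240) :
    inClassW basePack (kPack basePack k) k i = true ↔ InCls k i := by
  have hK : ∀ j < 5, bitField (kPack basePack k) (Nat.mul 32 j) 32 =
      key (tcode (bpt k)) (packC (tcode (bpt j))) := fun j hj =>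
    Nat.eq_of_beq_eq_true (allFrom_spec
      (allFrom_spec kPack_cert k (Nat.zero_le _) (by omega)) j (Nat.zero_le _) (by omega))
  have hv : ∀ j < k, (ip ((tL i : ruLattice) : RuVec) ((bL j : ruLattice) : RuVec) =
      ip ((bL k : ruLattice) : RuVec) ((bL j : ruLattice) : RuVec) ↔
      Nat.beq (key (tcode i) (bP basePack j))
        (bitField (kPack basePack k) (Nat.mul 32 j) 32) = true) := by
    intro j hj
    rw [bL, bL, tL_val hi, tL_val (bpt_lt _), tL_val (bpt_lt _), ← key_eq_iff, bP_eq (by omega),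
      hK j (by omega)]
    exact (nat_beq_iff _ _).symm
  rw [inClassW, forceNat_eq]
  constructor
  · exact fun h j hj => (hv j hj).2 (allFrom_spec h j (Nat.zero_le _) (by omega))
  · exact fun h => allFrom_intro fun j _ hj => (hv j (by omega)).1 (h j (by omega))

theorem tree_cert {k : ℕ} (hk : k < 5) : treeOk k = true := by
  have h12 := tree12_cert
  have h34 := tree34_cert
  rw [Bool.and_eq_true] at h12 h34
  interval_cases k
  exacts [tree0_cert, h12.1, h12.2, h34.1, h34.2]

/-- The generators from a level on. -/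
noncomputable def genGrp (k : ℕ) : Subgroup (Equiv.Perm ruLattice) :=
  Subgroup.closure {f | ∃ g, k ≤ g ∧ g < 5 ∧ gen g = f}

/-- The automorphisms fixing the first base vectors. -/
noncomputable def stab (k : ℕ) : Subgroup (Equiv.Perm ruLattice) where
  carrier := {f | f ∈ fourRu ∧ ∀ j < k, f (bL j) = bL j}
  one_mem' := ⟨one_mem _, fun _ _ => rfl⟩
  mul_mem' {f g} hf hg := ⟨mul_mem hf.1 hg.1, fun j hj => by
    rw [Equiv.Perm.mul_apply, hg.2 j hj, hf.2 j hj]⟩
  inv_mem' {f} hf := ⟨inv_mem hf.1, fun j hj => Equiv.Perm.inv_eq_iff_eq.2 (hf.2 j hj).symm⟩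

theorem stab_zero : stab 0 = fourRu := by
  ext f
  exact ⟨fun h => h.1, fun h => ⟨h, fun j hj => absurd hj (Nat.not_lt_zero j)⟩⟩

theorem gen_mem_stab {g k : ℕ} (hg : g < 5) (hk : k ≤ g) : gen g ∈ stab k := by
  refine ⟨gen_mem g, fun j hj => ?_⟩
  have h := allFrom_spec tab_cert g (Nat.zero_le _) (by omega)
  rw [Bool.and_eq_true] at h
  exact gen_tL hg (bpt_lt j) (bpt_lt j) (allFrom_spec h.2 j (Nat.zero_le _) (by omega))

theorem genGrp_le_stab (k : ℕ) : genGrp k ≤ stab k :=
  (Subgroup.closure_le _).2 fun _ ⟨_, hk, hg, e⟩ => e ▸ gen_mem_stab hg hk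

theorem genGrp_anti {k : ℕ} : genGrp (k + 1) ≤ genGrp k :=
  Subgroup.closure_mono fun _ ⟨g, hk, hg, e⟩ => ⟨g, by omega, hg, e⟩

/-- Every member of a class is reached. -/
theorem reach {k : ℕ} (hk : k < 5) {i : ℕ} (hi : i < 16240) (hc : InCls k i) :
    ∃ f ∈ genGrp k, f (bL k) = tL i := by
  induction hd : depthT (orbT k) i using Nat.strong_induction_on generalizing i with
  | _ d ih =>
    by_cases h0 : i = bpt k
    · exact ⟨1, one_mem _, by rw [h0]; rfl⟩
    · obtain ⟨g, par, hkg, hg, hp, hpc, hdd, him⟩ :=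
        step_spec (tree_cert hk) hi ((inClass_iff hk hi).2 hc) h0
      obtain ⟨f, hf, e⟩ := ih _ (hd ▸ hdd) hp ((inClass_iff hk hp).1 hpc) rfl
      exact ⟨gen g * f, mul_mem (Subgroup.subset_closure ⟨g, hkg, hg, rfl⟩) hf, by
        rw [Equiv.Perm.mul_apply, e, gen_tL hg hp hi him]⟩

/-- Stabilised vectors go into the class. -/
theorem image_class {k : ℕ} {f : Equiv.Perm ruLattice} (hf : f ∈ stab k) :
    ∃ i < 16240, InCls k i ∧ f (bL k) = tL i := by
  obtain ⟨i, hi, e⟩ := exists_tL (v := f (bL k)) ((hf.1.2.2 _).trans (tL_norm (bpt_lt k)))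
  refine ⟨i, hi, fun j hj => ?_, e⟩
  have := ip_map hf.1 (bL k) (bL j)
  rwa [e, hf.2 j hj] at this

theorem stab_step {k : ℕ} {f h : Equiv.Perm ruLattice} (hf : f ∈ stab k) (hh : h ∈ stab k)
    (e : f (bL k) = h (bL k)) : h⁻¹ * f ∈ stab (k + 1) := by
  have hm := mul_mem (inv_mem hh) hf
  refine ⟨hm.1, fun j hj => ?_⟩
  rcases Nat.lt_succ_iff_lt_or_eq.1 hj with hj | rfl
  · exact hm.2 j hj
  · rw [Equiv.Perm.mul_apply, e]
    simp

theorem stab_five : stab 5 = ⊥ := by
  refine eq_bot_iff.2 fun f hf => ?_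
  rw [Subgroup.mem_bot]
  refine eq_one_of_fix hf.1 fun m => ?_
  have hu : upt m.val < 16240 := upt_lt m
  obtain ⟨i, hi, e⟩ := exists_tL (v := f (tL (upt m.val))) ((hf.1.2.2 _).trans (tL_norm hu))
  have hk : ∀ j < 5, key (tcode i) (packC (tcode (bpt j))) =
      key (tcode (upt m.val)) (packC (tcode (bpt j))) := by
    intro j hj
    have h := ip_map hf.1 (tL (upt m.val)) (bL j)
    rw [e, hf.2 j hj, bL, tL_val hi, tL_val (bpt_lt j), tL_val hu] at h
    exact key_eq_iff.2 h
  have ht : tuple basePack i = tuple basePack (upt m.val) := by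
    have go : ∀ n ≤ 5, (Nat.rec (motive := fun _ => Nat) 0 (fun j ih => forceNat ih fun s =>
        Nat.add s (Nat.shiftLeft (key (tcode i) (bP basePack j)) (Nat.mul 32 j))) n) =
        (Nat.rec (motive := fun _ => Nat) 0 (fun j ih => forceNat ih fun s =>
          Nat.add s (Nat.shiftLeft (key (tcode (upt m.val)) (bP basePack j)) (Nat.mul 32 j))) n) := by
      intro n hn
      induction n with
      | zero => rfl
      | succ n ih =>
        refine (forceNat_eq _ _).trans (Eq.trans ?_ (forceNat_eq _ _).symm)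
        rw [ih (by omega), bP_eq (by omega), hk n (by omega)]
    rw [tuple, tuple, forceNat_eq, forceNat_eq]
    exact go 5 le_rfl
  have hm := uniq_cert i hi
  rw [uniqRow, forceNat_eq, forceNat_eq, uniqAt] at hm
  rw [forceNat_eq] at hm
  have hh := allFrom_spec hm m.val (Nat.zero_le _) (by omega)
  have hU := Nat.eq_of_beq_eq_true (allFrom_spec uPack_cert m.val (Nat.zero_le _) (by omega))
  rw [ht, hU, Nat.beq_refl] at hh
  simp only [Bool.not_true, Bool.false_or] at hh
  rw [e, Nat.eq_of_beq_eq_true hh]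

theorem stab_le_genGrp : ∀ {k : ℕ}, k ≤ 5 → stab k ≤ genGrp k := by
  intro k hk
  induction hn : 5 - k generalizing k with
  | zero =>
    obtain rfl : k = 5 := by omega
    rw [stab_five]
    exact bot_le
  | succ n ih =>
    intro f hf
    obtain ⟨i, hi, hc, e⟩ := image_class hf
    obtain ⟨h, hh, e'⟩ := reach (by omega) hi hc
    have := genGrp_anti (ih (by omega) (by omega)
      (stab_step hf (genGrp_le_stab _ hh) (e.trans e'.symm)))
    simpa using mul_mem hh this

theorem fourRu_eq_genGrp : fourRu = genGrp 0 :=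
  le_antisymm (stab_zero ▸ stab_le_genGrp (Nat.zero_le 5)) (stab_zero ▸ genGrp_le_stab 0)

/-- The orbit of a base vector. -/
theorem orbit_eq {k : ℕ} (hk : k < 5) :
    MulAction.orbit (stab k) (bL k) =
      ↑(((Finset.range 16240).filter fun i =>
        inClassW basePack (kPack basePack k) k i = true).image tL) := by
  ext v
  simp only [MulAction.mem_orbit_iff, Finset.coe_image, Set.mem_image, Finset.mem_coe,
    Finset.mem_filter, Finset.mem_range]
  constructor
  · rintro ⟨f, rfl⟩
    obtain ⟨i, hi, hc, e⟩ := image_class f.2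
    exact ⟨i, ⟨hi, (inClass_iff hk hi).2 hc⟩, e.symm⟩
  · rintro ⟨i, ⟨hi, hc⟩, rfl⟩
    obtain ⟨h, hh, e⟩ := reach hk hi ((inClass_iff hk hi).1 hc)
    exact ⟨⟨h, genGrp_le_stab _ hh⟩, e⟩

theorem card_stab_step {k : ℕ} (hk : k < 5) :
    Nat.card (stab k) = classSize k * Nat.card (stab (k + 1)) := by
  rw [Subgroup.card_eq_card_quotient_mul_card_subgroup (MulAction.stabilizer (stab k) (bL k)),
    ← Nat.card_congr (MulAction.orbitEquivQuotientStabilizer (stab k) (bL k))]
  refine congrArg₂ (· * ·) ?_ ?_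
  · rw [Nat.card_coe_set_eq, orbit_eq hk, Set.ncard_coe_finset, Finset.card_image_of_injOn ?_]
    · exact (classSize_eq k).symm
    intro a ha b hb h
    simp only [Finset.coe_filter, Set.mem_setOf_eq, Finset.mem_range] at ha hb
    exact tL_inj ha.1 hb.1 h
  · refine Nat.card_congr
      { toFun := fun f => ⟨f.1.1, f.1.2.1, fun j hj => ?_⟩
        invFun := fun f => ⟨⟨f.1, f.2.1, fun j hj => f.2.2 j (by omega)⟩, f.2.2 k (by omega)⟩
        left_inv := fun f => rfl
        right_inv := fun f => rfl }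
    rcases Nat.lt_succ_iff_lt_or_eq.1 hj with hj | rfl
    exacts [f.1.2.2 j hj, f.2]

theorem card_fourRu : Nat.card fourRu = 583704576000 := by
  have h := size_cert
  simp only [List.cons.injEq, and_true] at h
  obtain ⟨h0, h1, h2, h3, h4⟩ := h
  rw [← stab_zero, card_stab_step (by norm_num), card_stab_step (k := 0 + 1) (by norm_num),
    card_stab_step (k := 0 + 1 + 1) (by norm_num), card_stab_step (k := 0 + 1 + 1 + 1) (by norm_num),
    card_stab_step (k := 0 + 1 + 1 + 1 + 1) (by norm_num)]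
  norm_num [h0, h1, h2, h3, h4, stab_five, Subgroup.card_bot]

end Cfsg.Agent.H31.Ru
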