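import Cfsg.Agent.H31.Ru.OrbitDefs

/-!
The kernel check connecting the axes with the first base point.
-/

set_option autoImplicit false

namespace Cfsg.Agent.H31.Ru

open Cfsg.Spor Cfsg.Agent.H10.Ru Cfsg.Agent.H16

/-- The product with the first base vector, as a key. -/
noncomputable def key0 (P i : Nat) : Nat := key (tcode i) (bP P 0)

/-- Vectors meeting an axis and the first base point. -/
noncomputable def connOk : Bool :=
  forceNat basePack fun P => allFrom (fun p => forceNat (Data.conn.getD p 0) fun t =>
    and (Nat.blt t 16240) (and (not (Nat.beq (key0 P t) 262400))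
      (not (Nat.beq (key (tcode t) (packC (tcode (Nat.mul 4 p)))) 262400)))) 28 0

end Cfsg.Agent.H31.Ru
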