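import Cfsg.Agent.H16.CertArr

/-!
A verified search for the solutions of a linear system over the field with two elements under a
cost bound, evaluated by the kernel.
-/

set_option autoImplicit false

namespace Cfsg.Agent.H31.Ru

open Cfsg.Agent.H16

/-- One reduction step by a row. -/
noncomputable def rstep (r x : Nat) : Nat :=
  Bool.rec x (Nat.xor x r) (Nat.blt (Nat.xor x r) x)

/-- Reduction by a list of rows, oldest last. -/
noncomputable def reduce (B : List Nat) (x : Nat) : Nat :=
  List.rec (motive := fun _ => Nat) x (fun r _ ih => forceNat ih (rstep r)) B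

/-- Add a vector to a list of rows. -/
noncomputable def addRow {α : Sort*} (B : List Nat) (c : Nat) (k : List Nat → α) : α :=
  forceNat (reduce B c) fun r => Bool.rec (k (r :: B)) (k B) (Nat.beq r 0)

/-- An option: cost, vector, code. -/
abbrev Opt := Nat × Nat × Nat

/-- Add all vectors of a list of options. -/
noncomputable def addOpts {α : Sort*} (os : List Opt) (k : List Nat → α) : List Nat → α :=
  List.rec (motive := fun _ => List Nat → α) k (fun o _ ih B => addRow B o.2.1 ih) os

/-- Force the entries of a list of options. -/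
noncomputable def forceOpts {α : Sort*} (os : List Opt) : (List Opt → α) → α :=
  List.rec (motive := fun _ => (List Opt → α) → α) (fun k => k [])
    (fun o _ ih k => forceNat o.1 fun c => forceNat o.2.1 fun w => forceNat o.2.2 fun d =>
      ih fun l => k ((c, w, d) :: l)) os

/-- Every suffix with its rows. -/
noncomputable def build {α : Sort*} (L : List (List Opt)) :
    (List (List Opt × List Nat) → List Nat → α) → α :=
  List.rec (motive := fun _ => (List (List Opt × List Nat) → List Nat → α) → α)
    (fun k => k [] [])
    (fun os _ ih k => ih fun rest B => forceOpts os fun os =>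
      addOpts os (fun B' => k ((os, B') :: rest) B') B) L

/-- Test all options of a list. -/
noncomputable def allOpts (f : Opt → Bool) (os : List Opt) : Bool :=
  List.rec (motive := fun _ => Bool) true (fun o _ ih => and (f o) ih) os

/-- The search: every solution passes the test. -/
noncomputable def search (ok : Nat → Bool) (R : List (List Opt × List Nat)) :
    Nat → Nat → Nat → Bool :=
  List.rec (motive := fun _ => Nat → Nat → Nat → Bool)
    (fun _ s acc => Bool.rec true (ok acc) (Nat.beq s 0))
    (fun e _ ih b s acc => Bool.rec true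
      (allOpts (fun o => Bool.rec true
        (forceNat (Nat.sub b o.1) fun b' => forceNat (Nat.xor s o.2.1) fun s' =>
          forceNat (Nat.add acc o.2.2) fun acc' => ih b' s' acc')
        (Nat.ble o.1 b)) e.1)
      (Nat.beq (reduce e.2 s) 0)) R

/-! Specification. -/

theorem xor_lt_iff {x r : ℕ} (hr : r ≠ 0) : x ^^^ r < x ↔ x.testBit r.log2 = true := by
  have htop : r.testBit r.log2 = true := Nat.testBit_log2 hr
  have hhigh : ∀ j, r.log2 < j → r.testBit j = false := fun j hj =>
    Nat.testBit_lt_two_pow (lt_of_lt_of_le Nat.lt_log2_self (Nat.pow_le_pow_right (by norm_num) hj))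
  constructor
  · intro h
    by_contra hn
    rw [Bool.not_eq_true] at hn
    have : x < x ^^^ r := Nat.lt_of_testBit r.log2 hn (by rw [Nat.testBit_xor, hn, htop]; rfl)
      fun j hj => by rw [Nat.testBit_xor, hhigh j hj, Bool.xor_false]
    omega
  · intro h
    exact Nat.lt_of_testBit r.log2 (by rw [Nat.testBit_xor, h, htop]; rfl) h
      fun j hj => by rw [Nat.testBit_xor, hhigh j hj, Bool.xor_false]

theorem rstep_eq (r x : ℕ) : rstep r x = if x ^^^ r < x then x ^^^ r else x := by
  unfold rstep
  show (Bool.rec x (x ^^^ r) (Nat.blt (x ^^^ r) x) : ℕ) = _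
  by_cases h : x ^^^ r < x
  · rw [if_pos h, show Nat.blt (x ^^^ r) x = true by rwa [Nat.blt_eq]]
  · rw [if_neg h]
    have : Nat.blt (x ^^^ r) x = false := by
      rw [← Bool.not_eq_true, Nat.blt_eq]; exact h
    rw [this]

theorem rstep_zero (r : ℕ) : rstep r 0 = 0 := by rw [rstep_eq, if_neg (Nat.not_lt_zero _)]

theorem rstep_self {r : ℕ} : rstep r r = 0 := by
  rw [rstep_eq, Nat.xor_self]
  split_ifs with h
  · rfl
  · omega

theorem rstep_xor (r x y : ℕ) : rstep r (x ^^^ y) = rstep r x ^^^ rstep r y := by
  rcases eq_or_ne r 0 with rfl | hr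
  · simp [rstep_eq]
  simp only [rstep_eq, xor_lt_iff hr, Nat.testBit_xor]
  cases x.testBit r.log2 <;> cases y.testBit r.log2 <;> simp
  · rw [Nat.xor_assoc]
  · rw [Nat.xor_assoc, Nat.xor_comm y r, ← Nat.xor_assoc]
  · rw [Nat.xor_assoc x r, ← Nat.xor_assoc r y r, Nat.xor_comm r y, Nat.xor_assoc y r r,
      Nat.xor_self, Nat.xor_zero]

@[simp] theorem reduce_nil (x : ℕ) : reduce [] x = x := rfl

theorem reduce_cons (r : ℕ) (B : List ℕ) (x : ℕ) : reduce (r :: B) x = rstep r (reduce B x) :=
  forceNat_eq (reduce B x) (rstep r)

theorem reduce_zero : ∀ B : List ℕ, reduce B 0 = 0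
  | [] => rfl
  | r :: B => by rw [reduce_cons, reduce_zero B, rstep_zero]

theorem reduce_xor : ∀ (B : List ℕ) (x y : ℕ), reduce B (x ^^^ y) = reduce B x ^^^ reduce B y
  | [], _, _ => rfl
  | r :: B, x, y => by rw [reduce_cons, reduce_xor B, rstep_xor, ← reduce_cons, ← reduce_cons]

/-- The rows kill everything killed before and the vectors of the options. -/
def Kills (B : List ℕ) (S : Set ℕ) : Prop := ∀ c ∈ S, reduce B c = 0

theorem addRow_eq {α : Sort*} (B : List ℕ) (c : ℕ) (k : List ℕ → α) :
    addRow B c k = k (if reduce B c = 0 then B else reduce B c :: B) := by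
  unfold addRow
  rw [forceNat_eq]
  by_cases h : reduce B c = 0
  · rw [if_pos h, h]; rfl
  · rw [if_neg h]
    have : Nat.beq (reduce B c) 0 = false := by
      rw [← Bool.not_eq_true]
      exact fun e => h (Nat.eq_of_beq_eq_true e)
    rw [this]

theorem kills_addRow {B : List ℕ} {S : Set ℕ} (h : Kills B S) (c : ℕ) :
    Kills (if reduce B c = 0 then B else reduce B c :: B) (insert c S) := by
  intro d hd
  split_ifs with h0
  · rcases hd with rfl | hd
    exacts [h0, h d hd]
  · rw [reduce_cons]
    rcases hd with rfl | hd
    · exact rstep_self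
    · rw [h d hd, rstep_zero]

/-- Rows after a list of options. -/
noncomputable def addOptsSpec : List Opt → List ℕ → List ℕ
  | [], B => B
  | o :: os, B => addOptsSpec os (if reduce B o.2.1 = 0 then B else reduce B o.2.1 :: B)

theorem addOpts_eq {α : Sort*} (k : List ℕ → α) :
    ∀ (os : List Opt) (B : List ℕ), addOpts os k B = k (addOptsSpec os B)
  | [], _ => rfl
  | o :: os, B => by
    show addRow B o.2.1 (addOpts os k) = _
    rw [addRow_eq, addOpts_eq k os]
    rfl

theorem kills_addOpts : ∀ (os : List Opt) {B : List ℕ} {S : Set ℕ}, Kills B S →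
    Kills (addOptsSpec os B) (S ∪ {c | ∃ o ∈ os, o.2.1 = c})
  | [], B, S, h => by simpa [addOptsSpec, Kills] using h
  | o :: os, B, S, h => by
    intro c hc
    refine kills_addOpts os (kills_addRow h o.2.1) c ?_
    rcases hc with hc | ⟨o', ho', rfl⟩
    · exact Or.inl (Or.inr hc)
    · rcases List.mem_cons.1 ho' with rfl | ho'
      · exact Or.inl (Or.inl rfl)
      · exact Or.inr ⟨o', ho', rfl⟩

theorem forceOpts_eq {α : Sort*} : ∀ (os : List Opt) (k : List Opt → α), forceOpts os k = k os
  | [], _ => rfl
  | (a, b, c) :: os, k => by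
    show forceNat a (fun c' => forceNat b fun w => forceNat c fun d =>
      forceOpts os fun l => k ((c', w, d) :: l)) = _
    rw [forceNat_eq, forceNat_eq, forceNat_eq, forceOpts_eq os]

/-- The suffix list. -/
noncomputable def buildSpec : List (List Opt) → List (List Opt × List ℕ) × List ℕ
  | [] => ([], [])
  | os :: L =>
    ((os, addOptsSpec os (buildSpec L).2) :: (buildSpec L).1, addOptsSpec os (buildSpec L).2)

theorem build_eq {α : Sort*} : ∀ (L : List (List Opt)) (k : List (List Opt × List ℕ) → List ℕ → α),
    build L k = k (buildSpec L).1 (buildSpec L).2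
  | [], _ => rfl
  | os :: L, k => by
    show build L (fun rest B => forceOpts os fun os =>
      addOpts os (fun B' => k ((os, B') :: rest) B') B) = _
    rw [build_eq L, forceOpts_eq, addOpts_eq]
    rfl

theorem allOpts_spec {f : Opt → Bool} : ∀ {os : List Opt}, allOpts f os = true →
    ∀ o ∈ os, f o = true
  | [], _, _, h => absurd h List.not_mem_nil
  | o :: os, h, o', ho' => by
    have h' : (f o && allOpts f os) = true := h
    rw [Bool.and_eq_true] at h'
    rcases List.mem_cons.1 ho' with rfl | ho'
    exacts [h'.1, allOpts_spec h'.2 o' ho']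

/-- A selection of options. -/
def costs (σ : List Opt) : ℕ := (σ.map fun o => o.1).sum

/-- Total code of a selection. -/
def codes (σ : List Opt) : ℕ := (σ.map fun o => o.2.2).sum

/-- Total vector of a selection. -/
def vecs : List Opt → ℕ
  | [] => 0
  | o :: σ => o.2.1 ^^^ vecs σ

theorem reduce_vecs {L : List (List Opt)} {σ : List Opt}
    (hσ : List.Forall₂ (fun o os => o ∈ os) σ L) : reduce (buildSpec L).2 (vecs σ) = 0 := by
  induction hσ with
  | nil => rfl
  | @cons o os σ L ho _ ih =>
    show reduce (addOptsSpec os (buildSpec L).2) (o.2.1 ^^^ vecs σ) = 0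
    have hk := kills_addOpts os (B := (buildSpec L).2) (S := {vecs σ})
      fun c (hc : c = vecs σ) => hc ▸ ih
    rw [reduce_xor, hk _ (Or.inr ⟨o, ho, rfl⟩), hk (vecs σ) (Or.inl rfl)]
    rfl

theorem search_spec {ok : ℕ → Bool} : ∀ {L : List (List Opt)} {b s acc : ℕ},
    search ok (buildSpec L).1 b s acc = true → ∀ σ, List.Forall₂ (fun o os => o ∈ os) σ L →
    costs σ ≤ b → vecs σ = s → ok (acc + codes σ) = true
  | [], b, s, acc, h, σ, hσ, _, hv => by
    cases hσ
    subst hv
    exact h
  | os :: L, b, s, acc, h, σ, hσ, hc, hv => by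
    have hB := reduce_vecs hσ
    cases hσ with
    | @cons o _ σ _ ho hσ =>
      have h' : (Bool.rec true (allOpts (fun o => Bool.rec true
          (forceNat (Nat.sub b o.1) fun b' => forceNat (Nat.xor s o.2.1) fun s' =>
            forceNat (Nat.add acc o.2.2) fun acc' => search ok (buildSpec L).1 b' s' acc')
          (Nat.ble o.1 b)) os) (Nat.beq (reduce (addOptsSpec os (buildSpec L).2) s) 0) : Bool) =
          true := h
      rw [hv] at hB
      rw [show reduce (addOptsSpec os (buildSpec L).2) s = 0 from hB] at h'
      have h2 := allOpts_spec (show allOpts _ os = true from h') o ho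
      have hle : o.1 ≤ b := by simp [costs] at hc; omega
      rw [Nat.ble_eq_true_of_le hle] at h2
      simp only [forceNat_eq] at h2
      have h3 := search_spec (L := L) h2 σ hσ
        (by show costs σ ≤ b - o.1; simp [costs] at hc ⊢; omega)
        (by show vecs σ = s ^^^ o.2.1
            rw [← hv]
            show vecs σ = o.2.1 ^^^ vecs σ ^^^ o.2.1
            rw [Nat.xor_comm o.2.1, Nat.xor_assoc, Nat.xor_self, Nat.xor_zero])
      rw [show acc + codes (o :: σ) = acc + o.2.2 + codes σ by simp [codes, Nat.add_assoc]]
      exact h3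

/-- Build and search. -/
noncomputable def searchAll (ok : Nat → Bool) (L : List (List Opt)) (b s acc : Nat) : Bool :=
  build L fun R _ => forceNat b fun b => forceNat s fun s => forceNat acc fun acc =>
    search ok R b s acc

theorem searchAll_spec {ok : ℕ → Bool} {L : List (List Opt)} {b s acc : ℕ}
    (h : searchAll ok L b s acc = true) {σ : List Opt}
    (hσ : List.Forall₂ (fun o os => o ∈ os) σ L) (hc : costs σ ≤ b) (hv : vecs σ = s) :
    ok (acc + codes σ) = true := by
  rw [searchAll, build_eq, forceNat_eq, forceNat_eq, forceNat_eq] at h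
  exact search_spec h σ hσ hc hv

end Cfsg.Agent.H31.Ru
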