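import Cfsg.Agent.H31.Ru.Atoms
import Cfsg.Agent.H31.Ru.TableData
import Cfsg.Agent.H31.Ru.PackData

/-!
Packed vectors: images under matrices and Hermitian products, for the kernel.
-/

set_option autoImplicit false

namespace Cfsg.Agent.H31.Ru

open Cfsg.Spor Cfsg.Agent.H10.Ru Cfsg.Agent.H16

/-- The atom in slot `k`, for the kernel. -/
noncomputable def atomK (c k : Nat) : Nat :=
  Nat.mod (Nat.land (Nat.shiftRight c (Nat.mul 7 k)) 127) 112

theorem atomK_eq (c k : ℕ) : atomK c k = atom c k := by
  show (c >>> (7 * k) &&& 127) % 112 = c >>> (7 * k) % 128 % 112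
  rw [show (127 : ℕ) = 2 ^ 7 - 1 from rfl, Nat.and_two_pow_sub_one_eq_mod]

/-- A sum over the atoms of a code. -/
noncomputable def sum16 (f : Nat → Nat) (c : Nat) : Nat :=
  Nat.rec (motive := fun _ => Nat) 0 (fun k ih => forceNat ih fun s => Nat.add s (f (atomK c k))) 16

theorem sum16_eq (f : ℕ → ℕ) (c : ℕ) : sum16 f c = ((atoms c).map f).sum := by
  have key : ∀ n, (Nat.rec (motive := fun _ => Nat) 0
      (fun k ih => forceNat ih fun s => Nat.add s (f (atomK c k))) n) =
        (((List.range n).map (atom c)).map f).sum := by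
    intro n
    induction n with
    | zero => rfl
    | succ n ih =>
      rw [List.range_succ, List.map_append, List.map_append, List.sum_append, ← ih]
      refine (forceNat_eq _ _).trans ?_
      simp [atomK_eq]
  exact key 16

/-- Packed atom. -/
noncomputable def atomP (a : Nat) : Nat := Data.atomPack.get 560 a

/-- The code in the table. -/
noncomputable def tcode (i : Nat) : Nat :=
  bitField (Data.table.get (112 * 128) (Nat.mod i 128)) (Nat.mul 112 (Nat.div i 128)) 112

/-- Packed vector, biased by sixteen. -/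
noncomputable def packC (c : Nat) : Nat := sum16 atomP c

/-- Atom times a unit. -/
noncomputable def rotAtom (r a : Nat) : Nat :=
  Nat.add (Nat.mul 4 (Nat.div a 4)) (Nat.mod (Nat.add a r) 4)

/-- Packed unit multiple. -/
noncomputable def packRot (c r : Nat) : Nat := sum16 (fun a => atomP (rotAtom r a)) c

/-- Image of an atom under the matrix with the given columns. -/
noncomputable def colImg (col : Nat → Nat) (a : Nat) : Nat :=
  packRot (col (Nat.div a 4)) (Nat.mod a 4)

/-- Check that an image, given by a sum over atoms, is four times a vector. -/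
noncomputable def imgEq (g : Nat → Nat) (c t : Nat) : Bool :=
  Nat.beq (sum16 g c) (Nat.add (Nat.mul 4 (packC t)) (Nat.mul 192 Data.ones56))

/-- Hermitian product of an atom with a packed vector, biased. -/
noncomputable def keyAtom (d a : Nat) : Nat :=
  forceNat (Nat.shiftRight d (Nat.mul 20 (Nat.div a 4))) fun w =>
    forceNat (Nat.land w 1023) fun A => forceNat (Nat.land (Nat.shiftRight w 10) 1023) fun B =>
      forceNat (Nat.mod a 4) fun r =>
        Bool.rec
          (Bool.rec
            (Bool.rec (Nat.add (Nat.mul 1024 (Nat.sub 32 B)) (Nat.sub 32 A))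
              (Nat.add (Nat.mul 1024 (Nat.sub 32 A)) B) (Nat.beq r 2))
            (Nat.add (Nat.mul 1024 B) A) (Nat.beq r 1))
          (Nat.add (Nat.mul 1024 A) (Nat.sub 32 B)) (Nat.beq r 0)

/-- Encoded Hermitian product of a code with a packed vector. -/
noncomputable def key (c d : Nat) : Nat := sum16 (keyAtom d) c

/-! Meaning. -/

/-- Integer packing. -/
def P56 (v : RuVec) : ℤ :=
  ∑ q : Fin 28, ((v (idx q)).re + 1024 * (v (idx q)).im) * 1024 ^ (2 * q.val)

theorem P56_add (v w : RuVec) : P56 (v + w) = P56 v + P56 w := by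
  simp only [P56, Pi.add_apply, ← Finset.sum_add_distrib]
  refine Finset.sum_congr rfl fun q _ => ?_
  simp only [Zsqrtd.re_add, Zsqrtd.im_add]
  ring

theorem P56_sum : ∀ l : List RuVec, P56 l.sum = (l.map P56).sum
  | [] => by simp [P56]
  | v :: l => by rw [List.sum_cons, P56_add, P56_sum l, List.map_cons, List.sum_cons]

theorem atomP_spec : ∀ a : Fin 112,
    (atomP a : ℤ) = P56 (atomVec a) + Data.ones56 := by decide +kernel

theorem rot_atom : ∀ (a : Fin 112) (r : Fin 4),
    rotAtom r a < 112 ∧ ∀ q, rot r * atomVec a q = atomVec (rotAtom r a) q := by decide +kernel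

theorem cast_sum_map {α : Type*} (f : α → ℕ) (l : List α) :
    (((l.map f).sum : ℕ) : ℤ) = (l.map fun a => (f a : ℤ)).sum := by
  induction l with
  | nil => rfl
  | cons a l ih => simp [ih]

theorem sum_map_add_const {α : Type*} (f : α → ℤ) (b : ℤ) (l : List α) :
    (l.map fun a => f a + b).sum = (l.map f).sum + l.length * b := by
  induction l with
  | nil => simp
  | cons a l ih => simp [ih]; ring

theorem packC_spec (c : ℕ) : (packC c : ℤ) = P56 (vecOf c) + 16 * Data.ones56 := by
  rw [packC, sum16_eq, cast_sum_map, List.map_congr_left fun a ha =>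
    show (atomP a : ℤ) = P56 (atomVec a) + Data.ones56 from atomP_spec ⟨a, mem_atoms_lt ha⟩,
    sum_map_add_const, vecOf, P56_sum, List.map_map, length_atoms]
  rfl

theorem smul_sum' (z : GaussianInt) : ∀ l : List RuVec, z • l.sum = (l.map (z • ·)).sum
  | [] => smul_zero z
  | v :: l => by rw [List.sum_cons, smul_add, smul_sum' z l, List.map_cons, List.sum_cons]

theorem packRot_spec (c : ℕ) {r : ℕ} (hr : r < 4) :
    (packRot c r : ℤ) = P56 (rot r • vecOf c) + 16 * Data.ones56 := by
  rw [packRot, sum16_eq, cast_sum_map, List.map_congr_left fun a ha =>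
    show (atomP (rotAtom r a) : ℤ) = P56 (atomVec (rotAtom r a)) + Data.ones56 from
      atomP_spec ⟨rotAtom r a, (rot_atom ⟨a, mem_atoms_lt ha⟩ ⟨r, hr⟩).1⟩, sum_map_add_const, vecOf,
    smul_sum', P56_sum, List.map_map, List.map_map, length_atoms]
  congr 1
  refine congrArg List.sum (List.map_congr_left fun a ha => ?_)
  exact congrArg P56 (funext fun q => ((rot_atom ⟨a, mem_atoms_lt ha⟩ ⟨r, hr⟩).2 q).symm)

/-- The linear map with given columns. -/
def lin (col : ℕ → ℕ) (v : RuVec) : RuVec :=
  ∑ q : Fin 28, v (idx q) • vecOf (col q)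

theorem lin_add (col : ℕ → ℕ) (v w : RuVec) : lin col (v + w) = lin col v + lin col w := by
  simp only [lin, Pi.add_apply, add_smul, Finset.sum_add_distrib]

theorem lin_smul (col : ℕ → ℕ) (z : GaussianInt) (v : RuVec) : lin col (z • v) = z • lin col v := by
  simp only [lin, Pi.smul_apply, smul_eq_mul, mul_smul, Finset.smul_sum]

theorem lin_list : ∀ (col : ℕ → ℕ) (l : List RuVec), lin col l.sum = (l.map (lin col)).sum
  | col, [] => by simp [lin]
  | col, v :: l => by rw [List.sum_cons, lin_add, lin_list col l, List.map_cons, List.sum_cons]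

theorem lin_atom (col : ℕ → ℕ) {a : ℕ} (ha : a < 112) :
    lin col (atomVec a) = rot (a % 4) • vecOf (col (a / 4)) := by
  have hr : rot (a % 4) = rot a := by unfold rot; rw [Nat.mod_mod]
  rw [lin, Finset.sum_eq_single (⟨a / 4, by omega⟩ : Fin 28)]
  · rw [atomVec, flat_idx, if_pos rfl, hr]
  · intro q _ hq
    rw [atomVec, flat_idx, if_neg (fun h => hq (Fin.ext h)), zero_smul]
  · simp

theorem colImg_spec (col : ℕ → ℕ) {a : ℕ} (ha : a < 112) :
    (colImg col a : ℤ) = P56 (lin col (atomVec a)) + 16 * Data.ones56 := by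
  rw [lin_atom col ha]
  exact packRot_spec _ (Nat.mod_lt _ (by norm_num))

/-- All coordinates are bounded. -/
def Bnd (B : ℕ) (v : RuVec) : Prop := ∀ p, |(v p).re| ≤ B ∧ |(v p).im| ≤ B

theorem bnd_sum {B : ℕ} : ∀ l : List RuVec, (∀ v ∈ l, Bnd B v) → Bnd (l.length * B) l.sum
  | [], _, p => by simp
  | v :: l, h, p => by
    obtain ⟨a, b⟩ := bnd_sum l (fun w hw => h w (List.mem_cons_of_mem _ hw)) p
    obtain ⟨c, d⟩ := h v List.mem_cons_self p
    simp only [List.sum_cons, Pi.add_apply, Zsqrtd.re_add, Zsqrtd.im_add, List.length_cons]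
    push_cast at a b ⊢
    constructor
    · have := abs_add_le (v p).re (l.sum p).re
      nlinarith
    · have := abs_add_le (v p).im (l.sum p).im
      nlinarith

theorem bnd_atom (a : ℕ) : Bnd 1 (atomVec a) := by
  intro p
  unfold atomVec rot
  split_ifs <;> constructor <;> decide

theorem bnd_vecOf (c : ℕ) : Bnd 16 (vecOf c) := by
  have h := bnd_sum ((atoms c).map atomVec) (B := 1) fun v hv => by
    obtain ⟨a, -, rfl⟩ := List.mem_map.1 hv; exact bnd_atom a
  rwa [List.length_map, length_atoms] at h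

theorem bnd_rot (r : ℕ) {B : ℕ} {v : RuVec} (h : Bnd B v) : Bnd B (rot r • v) := by
  intro p
  obtain ⟨a, b⟩ := h p
  unfold rot
  split_ifs <;> simp [gI, a, b]

theorem bnd_lin (col : ℕ → ℕ) (c : ℕ) : Bnd 256 (lin col (vecOf c)) := by
  have h := bnd_sum ((atoms c).map fun a => rot (a % 4) • vecOf (col (a / 4))) (B := 16)
    fun v hv => by
      obtain ⟨a, -, rfl⟩ := List.mem_map.1 hv
      exact bnd_rot _ (bnd_vecOf _)
  rw [List.length_map, length_atoms] at h
  rw [vecOf, lin_list, List.map_map, List.map_congr_left fun a ha =>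
    (Function.comp_apply (f := lin col) (g := atomVec)).trans (lin_atom col (mem_atoms_lt ha))]
  exact h

theorem eq_zero_of_sum : ∀ {n : ℕ} (d : Fin n → ℤ), (∀ k, |d k| < 1024 ^ 2) →
    ∑ k, d k * (1024 ^ 2) ^ k.val = 0 → ∀ k, d k = 0
  | 0, _, _, _, k => k.elim0
  | n + 1, d, hd, h, k => by
    rw [Fin.sum_univ_succ] at h
    simp only [Fin.val_zero, pow_zero, mul_one, Fin.val_succ, pow_succ, ← mul_assoc,
      ← Finset.sum_mul] at h
    obtain ⟨h1, h2⟩ := abs_lt.1 (hd 0)
    set S : ℤ := ∑ k : Fin n, d k.succ * (1024 * 1024) ^ k.val with hS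
    have h0 : d 0 = 0 := by
      norm_num at h1 h2 h
      omega
    induction k using Fin.cases with
    | zero => exact h0
    | succ k =>
      refine eq_zero_of_sum (fun k => d k.succ) (fun k => hd _) ?_ k
      rw [h0] at h
      norm_num at h ⊢
      omega

theorem P56_inj {v w : RuVec} (hv : Bnd 256 v) (hw : Bnd 256 w) (h : P56 v = P56 w) : v = w := by
  set d : Fin 28 → ℤ := fun q =>
    ((v (idx q)).re - (w (idx q)).re) + 1024 * ((v (idx q)).im - (w (idx q)).im) with hd
  have hb : ∀ q, |d q| < 1024 ^ 2 := by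
    intro q
    obtain ⟨a, b⟩ := hv (idx q)
    obtain ⟨c, e⟩ := hw (idx q)
    rw [abs_le] at a b c e
    push_cast at a b c e
    rw [abs_lt, hd]
    simp only
    constructor <;> norm_num <;> linarith
  have h0 : ∑ q, d q * (1024 ^ 2) ^ q.val = 0 := by
    rw [← sub_eq_zero, P56, P56, ← Finset.sum_sub_distrib] at h
    rw [← h]
    refine Finset.sum_congr rfl fun q _ => ?_
    rw [← pow_mul, hd]
    ring
  funext p
  obtain ⟨q, rfl⟩ : ∃ q, idx q = p := ⟨_, idx_flat p⟩
  have e := eq_zero_of_sum d hb h0 q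
  obtain ⟨a, b⟩ := hv (idx q)
  obtain ⟨c, f⟩ := hw (idx q)
  rw [abs_le] at a b c f
  push_cast at a b c f
  simp only [hd] at e
  exact Zsqrtd.ext (by omega) (by omega)

theorem Bnd.mono {B B' : ℕ} {v : RuVec} (h : Bnd B v) (hB : B ≤ B') : Bnd B' v := fun p =>
  ⟨(h p).1.trans (Int.ofNat_le.2 hB), (h p).2.trans (Int.ofNat_le.2 hB)⟩

/-- A passed image check. -/
theorem imgEq_spec {col : ℕ → ℕ} {g : ℕ → ℕ} (hg : ∀ a < 112, g a = colImg col a) {c t : ℕ}
    (h : imgEq g c t = true) : lin col (vecOf c) = 4 • vecOf t := by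
  have h1 := Nat.eq_of_beq_eq_true h
  have h2 : ((sum16 g c : ℕ) : ℤ) = P56 (lin col (vecOf c)) + 256 * Data.ones56 := by
    rw [sum16_eq, cast_sum_map, List.map_congr_left fun a ha =>
      show (g a : ℤ) = P56 (lin col (atomVec a)) + 16 * Data.ones56 from
        (congrArg Nat.cast (hg a (mem_atoms_lt ha))).trans (colImg_spec col (mem_atoms_lt ha)),
      sum_map_add_const, length_atoms, vecOf, lin_list, P56_sum, List.map_map, List.map_map]
    simp [Function.comp_def]
    ring
  have h4 : P56 (4 • vecOf t) = 4 * P56 (vecOf t) := by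
    rw [show (4 : ℕ) • vecOf t = vecOf t + vecOf t + vecOf t + vecOf t by abel]
    simp only [P56_add]
    ring
  refine P56_inj (bnd_lin col c) ?_ ?_
  · intro p
    obtain ⟨a, b⟩ := bnd_vecOf t p
    rw [abs_le] at a b
    push_cast at a b
    simp only [Pi.smul_apply, nsmul_eq_mul]
    constructor <;> rw [abs_le] <;> simp <;> omega
  · rw [h4]
    have h3 : ((sum16 g c : ℕ) : ℤ) = ((4 * packC t + 192 * Data.ones56 : ℕ) : ℤ) := congrArg _ h1
    rw [h2] at h3
    push_cast [packC_spec] at h3
    linarith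

/-- The Hermitian product. -/
def ip (v w : RuVec) : GaussianInt := ∑ p, v p * star (w p)

/-- The encoding of a product. -/
def encIP (z : GaussianInt) : ℤ := 1024 * z.re + z.im + 262400

end Cfsg.Agent.H31.Ru
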