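import Cfsg.Agent.H31.Ru.MinLoop
import Cfsg.Agent.H31.Ru.Pack

/-!
Matching a code with a table entry.
-/

set_option autoImplicit false

namespace Cfsg.Agent.H31.Ru

open Cfsg.Spor Cfsg.Agent.H10.Ru Cfsg.Agent.H16

/-- The residue code of a unit. -/
noncomputable def unitCode (r : Nat) : Nat := Nat.land (Nat.shiftRight 0xC341 (Nat.mul 4 r)) 15

/-- The atoms have distinct positions and give the code. -/
noncomputable def unitsGo (c code : Nat) (k : Nat) : Nat → Nat → Bool :=
  Nat.rec (motive := fun _ => Nat → Nat → Bool) (fun _ s => Nat.beq s code)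
    (fun k ih m s => forceNat (atomK c k) fun a => forceNat (Nat.div a 4) fun p =>
      Bool.rec
        (forceNat (Nat.lor m (Nat.pow 2 p)) fun m' => forceNat
          (Nat.add s (Nat.shiftLeft (unitCode (Nat.mod a 4)) (Nat.mul 4 p))) fun s' => ih m' s')
        false (Nat.beq (Nat.land (Nat.shiftRight m p) 1) 1)) k

/-- The test of an expected entry. -/
noncomputable def good (code i : Nat) : Bool :=
  and (Nat.blt i 16240) (unitsGo (tcode i) code 16 0 0)

theorem unitsGo_spec (c code : ℕ) : ∀ {k m s : ℕ}, unitsGo c code k m s = true →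
    (((List.range k).map fun j => atom c j / 4).Nodup ∧ ∀ j < k, m.testBit (atom c j / 4) = false) ∧
      code = s + ∑ j ∈ Finset.range k, unitCode (atom c j % 4) <<< (4 * (atom c j / 4))
  | 0, m, s, h => by
    refine ⟨⟨List.nodup_nil, fun j hj => absurd hj (Nat.not_lt_zero j)⟩, ?_⟩
    have := Nat.eq_of_beq_eq_true (show Nat.beq s code = true from h)
    simp [this]
  | k + 1, m, s, h => by
    have h' : (forceNat (atomK c k) fun a => forceNat (Nat.div a 4) fun p => (Bool.rec
        (forceNat (Nat.lor m (Nat.pow 2 p)) fun m' => forceNat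
          (Nat.add s (Nat.shiftLeft (unitCode (Nat.mod a 4)) (Nat.mul 4 p))) fun s' =>
            unitsGo c code k m' s')
        false (Nat.beq (Nat.land (Nat.shiftRight m p) 1) 1) : Bool)) = true := h
    simp only [forceNat_eq, atomK_eq] at h'
    set p := Nat.div (atom c k) 4 with hp
    have hbit : m.testBit p = false := by
      cases hb : m.testBit p
      · rfl
      · exfalso
        have : Nat.land (Nat.shiftRight m p) 1 = 1 := by
          show (m >>> p) &&& 1 = 1
          rw [Nat.and_one_is_mod, Nat.shiftRight_eq_div_pow]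
          rw [Nat.testBit_eq_decide_div_mod_eq, decide_eq_true_eq] at hb
          exact hb
        rw [this] at h'
        exact Bool.noConfusion (h' : false = true)
    have hne : Nat.beq (Nat.land (Nat.shiftRight m p) 1) 1 = false := by
      rw [← Bool.not_eq_true]
      intro e
      have e' : (m >>> p) &&& 1 = 1 := Nat.eq_of_beq_eq_true e
      rw [Nat.and_one_is_mod, Nat.shiftRight_eq_div_pow] at e'
      rw [Nat.testBit_eq_decide_div_mod_eq, decide_eq_false_iff_not] at hbit
      exact hbit e'
    rw [hne] at h'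
    obtain ⟨⟨hnd, hfree⟩, hcode⟩ := unitsGo_spec c code h'
    have hor : ∀ j < k, m.testBit (atom c j / 4) = false ∧ atom c j / 4 ≠ p := by
      intro j hj
      have := hfree j hj
      rw [show Nat.lor m (Nat.pow 2 p) = m ||| 2 ^ p from rfl, Nat.testBit_or,
        Bool.or_eq_false_iff] at this
      refine ⟨this.1, fun e => ?_⟩
      rw [e, Nat.testBit_two_pow_self] at this
      exact Bool.noConfusion this.2
    refine ⟨⟨?_, ?_⟩, ?_⟩
    · rw [List.range_succ, List.map_append, List.nodup_append]
      refine ⟨hnd, List.nodup_singleton _, ?_⟩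
      intro a ha b hb
      obtain ⟨j, hj, rfl⟩ := List.mem_map.1 ha
      simp only [List.map_cons, List.map_nil, List.mem_singleton] at hb
      rw [hb]
      exact (hor j (List.mem_range.1 hj)).2
    · intro j hj
      rcases Nat.lt_succ_iff_lt_or_eq.1 hj with hj | rfl
      exacts [(hor j hj).1, hbit]
    · rw [hcode, Finset.sum_range_succ]
      show s + unitCode (atom c k % 4) <<< (4 * (atom c k / 4)) + _ = _
      ring

theorem code4_rot : ∀ r : Fin 4, code4 (red4 (rot r)) = unitCode r ∧ code4 (red4 0) = 0 := by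
  decide +kernel

theorem code4_lt : ∀ a : R4, code4 a < 16 := by decide +kernel

theorem code4_inj : ∀ a b : R4, code4 a = code4 b → a = b := by decide +kernel

/-- A matched code is the code of the table entry, whose entries are units or zero. -/
theorem good_spec {code i : ℕ} (h : good code i = true) :
    i < 16240 ∧ code28 (redVec (vecOf (tcode i))) = code ∧
      (∀ p, vecOf (tcode i) p = 0 ∨ (vecOf (tcode i) p).norm = 1) ∧
      ruNorm (vecOf (tcode i)) = 16 := by
  rw [good, Bool.and_eq_true] at h
  refine ⟨by simpa [Nat.blt_eq] using h.1, ?_⟩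
  obtain ⟨⟨hnd, -⟩, hcode⟩ := unitsGo_spec _ _ h.2
  set c := tcode i
  have hinj : ∀ j < 16, ∀ j' < 16, atom c j / 4 = atom c j' / 4 → j = j' := fun j hj j' hj' e =>
    List.inj_on_of_nodup_map hnd (List.mem_range.2 hj) (List.mem_range.2 hj') e
  have hat : ∀ p j, flat p ≠ atom c j / 4 → atomVec (atom c j) p = 0 := fun p j hne => if_neg hne
  have hsum : ∀ p, vecOf c p = ∑ j ∈ Finset.range 16, atomVec (atom c j) p := by
    intro p
    rw [vecOf_apply, atoms, List.map_map, ← List.sum_toFinset _ List.nodup_range,
      List.toFinset_range]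
    rfl
  have hval : ∀ j < 16, ∀ p, flat p = atom c j / 4 → vecOf c p = rot (atom c j) := by
    intro j hj p hp
    rw [hsum, Finset.sum_eq_single j]
    · rw [atomVec, if_pos hp]
    · intro j' hj' hne
      exact hat p j' fun e => hne (hinj j' (Finset.mem_range.1 hj') j hj (e.symm.trans hp))
    · simp [hj]
  have hzero : ∀ p, (∀ j < 16, flat p ≠ atom c j / 4) → vecOf c p = 0 := fun p hp => by
    rw [hsum]
    exact Finset.sum_eq_zero fun j hj => hat p j (hp j (Finset.mem_range.1 hj))
  have htot : ∀ {β : Type} [AddCommMonoid β] (F : ℕ → GaussianInt → β), (∀ q, F q 0 = 0) →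
      ∑ q : Fin 28, F q (vecOf c (idx q)) =
        ∑ j ∈ Finset.range 16, F (atom c j / 4) (rot (atom c j)) := by
    intro β _ F hF
    refine (Finset.sum_of_injOn (fun j => (⟨atom c j / 4 % 28, Nat.mod_lt _ (by norm_num)⟩ : Fin 28))
      ?_ (fun _ _ => Finset.mem_coe.2 (Finset.mem_univ _)) ?_ ?_).symm
    · intro j hj j' hj' e
      have h1 := atom_lt c j
      have h2 := atom_lt c j'
      have := congrArg Fin.val e
      simp only at this
      exact hinj j (Finset.mem_range.1 hj) j' (Finset.mem_range.1 hj') (by omega)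
    · intro q _ hq
      rw [hzero _ fun j hj e => hq ⟨j, Finset.mem_range.2 hj, Fin.ext (by
        simp only
        rw [← e, flat_idx, Nat.mod_eq_of_lt q.isLt])⟩, hF]
    · intro j hj
      have := atom_lt c j
      have e : atom c j / 4 % 28 = atom c j / 4 := Nat.mod_eq_of_lt (by omega)
      rw [hval j (Finset.mem_range.1 hj) _ (by rw [flat_idx]; exact e)]
      simp only [e]
  refine ⟨?_, ?_, ?_⟩
  · rw [code28, ← Fin.sum_univ_eq_sum_range fun q => code4 (atIdx (redVec (vecOf c)) q) <<< (4 * q),
      hcode, Nat.zero_add]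
    have h1 : ∀ q : Fin 28, code4 (atIdx (redVec (vecOf c)) q) <<< (4 * q.val) =
        code4 (red4 (vecOf c (idx q))) <<< (4 * q.val) := fun q => by
      rw [show atIdx (redVec (vecOf c)) q = redVec (vecOf c) (idx q) by
        simp [atIdx, Nat.mod_eq_of_lt q.isLt]]
      rfl
    rw [Finset.sum_congr rfl fun q _ => h1 q,
      htot (fun q z => code4 (red4 z) <<< (4 * q)) fun q => by
        rw [(code4_rot 0).2, Nat.zero_shiftLeft]]
    refine Finset.sum_congr rfl fun j _ => ?_
    have hr : rot (atom c j) = rot (atom c j % 4) := by unfold rot; rw [Nat.mod_mod]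
    rw [hr, (code4_rot ⟨_, Nat.mod_lt _ (by norm_num)⟩).1]
  · intro p
    by_cases hp : ∃ j < 16, flat p = atom c j / 4
    · obtain ⟨j, hj, e⟩ := hp
      exact Or.inr (by rw [hval j hj p e, rot_norm])
    · exact Or.inl (hzero p fun j hj e => hp ⟨j, hj, e⟩)
  · have hb : Function.Bijective idx :=
      ⟨fun a b e => Fin.ext (by rw [← flat_idx a, e, flat_idx]), fun p => ⟨_, idx_flat p⟩⟩
    rw [ruNorm, ← hb.sum_comp, htot (fun _ z => z.norm) fun _ => Zsqrtd.norm_zero]
    simp [rot_norm]

end Cfsg.Agent.H31.Ru
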