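import Cfsg.Agent.H31.Ru.OrbitDefs
import Cfsg.Agent.H31.Ru.PermData
import Cfsg.Agent.H56.RuTits.Gens

/-!
The kernel checks for the action on the 4060 lines.
-/

set_option autoImplicit false

namespace Cfsg.Agent.H31.Ru

open Cfsg.Spor Cfsg.Agent.H10.Ru Cfsg.Agent.H16

/-- The representative of a line. -/
noncomputable def lrep (x : Nat) : Nat := Data.lineRep.get 14 x

/-- The line of a vector. -/
noncomputable def lineOf (i : Nat) : Nat := Nat.land (Data.lineInfo.get 28 i) 4095

/-- The multiple by the imaginary unit. -/
noncomputable def nextOf (i : Nat) : Nat :=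
  Nat.land (Nat.shiftRight (Data.lineInfo.get 28 i) 12) 16383

/-- The rotation from the representative. -/
noncomputable def rotOf (i : Nat) : Nat :=
  Nat.land (Nat.shiftRight (Data.lineInfo.get 28 i) 26) 3

/-- The numbering of lines. -/
noncomputable def linesOk : Bool :=
  and
    (allFrom (fun x => and (Nat.blt (lrep x) 16240) (Nat.beq (lineOf (lrep x)) x)) 4060 0)
    (allFrom (fun i =>
      and (and (Nat.blt (lineOf i) 4060) (and (Nat.blt (nextOf i) 16240) (Nat.beq (lineOf (nextOf i)) (lineOf i))))
        (and (Nat.beq (packRot (tcode i) 1) (packC (tcode (nextOf i))))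
          (Nat.beq (packRot (tcode (lrep (lineOf i))) (rotOf i)) (packC (tcode i))))) 16240 0)

/-- Columns of an external generator. -/
noncomputable def extCol (g q : Nat) : Nat :=
  bitField (Data.extCols.getD g 0) (Nat.mul 16 q) 16

/-- Images of the spanning vectors under an external generator. -/
noncomputable def extImg (g k : Nat) : Nat :=
  bitField (Data.extImgs.getD g 0) (Nat.mul 16 k) 16

/-- An external generator is an automorphism inducing the given permutation. -/
noncomputable def extOk (g : Nat) (tgt : PArr) (P : Nat) : Bool :=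
  and (and (and (gramOk (extCol g)) (spanOk (extCol g) (extImg g)))
      (and (allFrom (fun q => Nat.blt (extCol g q) 16240) 28 0)
        (allFrom (fun k => Nat.blt (extImg g k) 16240) 26 0)))
    (forceNat (imgPack fun q => tcode (extCol g q)) fun T =>
      and
        (allFrom (fun a => Nat.beq (bitField T (Nat.mul 560 a) 560) (colImg (colsOf (extCol g)) a)) 112 0)
        (allFrom (fun x => forceNat (tgt.get 14 x) fun t =>
          and (and (Nat.blt t 16240) (Nat.beq (lineOf t) (Cfsg.Agent.H36.pim 12 P x)))
            (imgEq (fun a => bitField T (Nat.mul 560 a) 560) (tcode (lrep x)) (tcode t))) 4060 0))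

end Cfsg.Agent.H31.Ru
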