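import Cfsg.Agent.H31.Ru.Scalar
import Cfsg.Agent.H31.Ru.CertLines

/-!
The action on the 4060 lines.
-/

set_option autoImplicit false

namespace Cfsg.Agent.H31.Ru

open Cfsg.Spor Cfsg.Agent.H10.Ru Cfsg.Agent.H16

theorem vec_of_pack {c d : ℕ} {z : GaussianInt} {r : ℕ} (hr : r < 4) (hz : rot r = z)
    (h : packRot c r = packC d) : z • vecOf c = vecOf d := by
  have e := packRot_spec c hr
  rw [h, packC_spec] at e
  rw [← hz]
  exact (P56_inj ((bnd_vecOf d).mono (by norm_num)) ((bnd_rot r (bnd_vecOf c)).mono (by norm_num))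
    (by linarith)).symm

theorem lrep_spec {x : ℕ} (hx : x < 4060) : lrep x < 16240 ∧ lineOf (lrep x) = x := by
  have h := lines_cert
  rw [linesOk, Bool.and_eq_true] at h
  have e := allFrom_spec h.1 x (Nat.zero_le _) (by omega)
  rw [Bool.and_eq_true, Nat.blt_eq] at e
  exact ⟨e.1, Nat.eq_of_beq_eq_true e.2⟩

theorem line_spec {i : ℕ} (hi : i < 16240) :
    lineOf i < 4060 ∧ nextOf i < 16240 ∧ lineOf (nextOf i) = lineOf i ∧
      gI • tvec i = tvec (nextOf i) ∧ rotOf i < 4 ∧
      gI ^ rotOf i • tvec (lrep (lineOf i)) = tvec i := by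
  have h := lines_cert
  rw [linesOk, Bool.and_eq_true] at h
  have e := allFrom_spec h.2 i (Nat.zero_le _) (by omega)
  simp only [Bool.and_eq_true, Nat.blt_eq] at e
  obtain ⟨⟨h1, h2, h3⟩, h4, h5⟩ := e
  have hr : rotOf i < 4 := by
    have : rotOf i ≤ 3 := Nat.and_le_right
    omega
  exact ⟨h1, h2, Nat.eq_of_beq_eq_true h3,
    vec_of_pack (by norm_num) (by decide) (Nat.eq_of_beq_eq_true h4), hr,
    vec_of_pack hr (rot_eq_pow ⟨_, hr⟩) (Nat.eq_of_beq_eq_true h5)⟩

/-- Unit multiples lie on one line. -/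
theorem line_pow {i : ℕ} (hi : i < 16240) :
    ∀ n : ℕ, ∃ j < 16240, (iPerm ^ n) (tL i) = tL j ∧ lineOf j = lineOf i
  | 0 => ⟨i, hi, rfl, rfl⟩
  | n + 1 => by
    obtain ⟨j, hj, e, hl⟩ := line_pow hi n
    obtain ⟨-, h2, h3, h4, -⟩ := line_spec hj
    refine ⟨nextOf j, h2, ?_, h3.trans hl⟩
    rw [pow_succ', Equiv.Perm.mul_apply, e]
    exact Subtype.ext (by
      show gI • ((tL j : ruLattice) : RuVec) = _
      rw [tL_val hj, tL_val h2, h4])

theorem tL_line {i : ℕ} (hi : i < 16240) :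
    (iPerm ^ rotOf i) (tL (lrep (lineOf i))) = tL i := by
  obtain ⟨h1, -, -, -, -, h5⟩ := line_spec hi
  exact Subtype.ext (by rw [iPerm_pow, tL_val (lrep_spec h1).1, tL_val hi, h5])

open Classical in
/-- The index of a vector of norm sixteen. -/
noncomputable def ixOf (v : ruLattice) : ℕ :=
  if h : ∃ i < 16240, v = tL i then h.choose else 0

theorem ixOf_tL {i : ℕ} (hi : i < 16240) : ixOf (tL i) = i := by
  have h : ∃ j < 16240, tL i = tL j := ⟨i, hi, rfl⟩
  rw [ixOf, dif_pos h]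
  exact (tL_inj hi h.choose_spec.1 h.choose_spec.2).symm

theorem ixOf_lt (v : ruLattice) : ixOf v < 16240 := by
  unfold ixOf
  split_ifs with h
  exacts [h.choose_spec.1, by norm_num]

theorem exists_image (f : fourRu) {i : ℕ} (hi : i < 16240) :
    f.1 (tL i) = tL (ixOf (f.1 (tL i))) := by
  obtain ⟨j, hj, e⟩ := exists_tL (v := f.1 (tL i)) ((f.2.2.2 _).trans (tL_norm hi))
  rw [e, ixOf_tL hj]

/-- The image of a line. -/
noncomputable def lineFun (f : fourRu) (x : Fin 4060) : Fin 4060 :=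
  ⟨lineOf (ixOf (f.1 (tL (lrep x)))), (line_spec (ixOf_lt _)).1⟩

theorem lineFun_line (f : fourRu) {i j : ℕ} (hi : i < 16240) (hj : j < 16240)
    (e : f.1 (tL i) = tL j) : lineFun f ⟨lineOf i, (line_spec hi).1⟩ = ⟨lineOf j, (line_spec hj).1⟩ := by
  refine Fin.ext ?_
  show lineOf (ixOf (f.1 (tL (lrep (lineOf i))))) = lineOf j
  have hr := (lrep_spec (line_spec hi).1).1
  obtain ⟨k, hk, hk', hl⟩ := line_pow (ixOf_lt (f.1 (tL (lrep (lineOf i))))) (rotOf i)
  have hc : f.1 * iPerm ^ rotOf i = iPerm ^ rotOf i * f.1 := by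
    have := congrArg Subtype.val ((Commute.pow_right (iEl_comm f) (rotOf i)).eq)
    simpa [iEl] using this
  have h2 : f.1 (tL i) = tL k := by
    rw [← tL_line hi, ← Equiv.Perm.mul_apply, hc, Equiv.Perm.mul_apply, exists_image f hr, hk']
  rw [← hl, tL_inj hj hk (e.symm.trans h2)]

theorem lineFun_mul (f g : fourRu) (x : Fin 4060) :
    lineFun (f * g) x = lineFun f (lineFun g x) := by
  have hx := (lrep_spec x.2).1
  set j := ixOf (g.1 (tL (lrep x)))
  have hj : j < 16240 := ixOf_lt _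
  have e1 : g.1 (tL (lrep x)) = tL j := exists_image g hx
  have e2 : f.1 (tL j) = tL (ixOf (f.1 (tL j))) := exists_image f hj
  rw [show lineFun g x = ⟨lineOf j, (line_spec hj).1⟩ from rfl, lineFun_line f hj (ixOf_lt _) e2]
  refine Fin.ext ?_
  show lineOf (ixOf ((f * g).1 (tL (lrep x)))) = _
  rw [Subgroup.coe_mul, Equiv.Perm.mul_apply, e1]

theorem lineFun_one (x : Fin 4060) : lineFun 1 x = x := by
  refine Fin.ext ?_
  show lineOf (ixOf (tL (lrep x))) = x
  rw [ixOf_tL (lrep_spec x.2).1, (lrep_spec x.2).2]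

/-- The action on lines. -/
noncomputable def lineHom₀ : fourRu →* Equiv.Perm (Fin 4060) where
  toFun f :=
    { toFun := lineFun f
      invFun := lineFun f⁻¹
      left_inv := fun x => by rw [← lineFun_mul, inv_mul_cancel, lineFun_one]
      right_inv := fun x => by rw [← lineFun_mul, mul_inv_cancel, lineFun_one] }
  map_one' := Equiv.ext lineFun_one
  map_mul' f g := Equiv.ext (lineFun_mul f g)

theorem lineHom₀_apply (f : fourRu) (x : Fin 4060) : lineHom₀ f x = lineFun f x := rfl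

/-- An automorphism fixing every line is a scalar. -/
theorem mem_center_of_lines {f : fourRu} (h : ∀ i < 16240, ∃ n : ℕ, f.1 (tL i) = (iPerm ^ n) (tL i)) :
    f ∈ Subgroup.center fourRu := by
  rw [center_eq]
  obtain ⟨n, hn⟩ := h 0 (by norm_num)
  suffices hw : (iEl ^ n)⁻¹ * f = 1 by
    rw [inv_mul_eq_one] at hw
    exact hw ▸ pow_mem (Subgroup.mem_zpowers iEl) n
  set w : fourRu := (iEl ^ n)⁻¹ * f with hwdef
  have hfix0 : w.1 (bL 0) = bL 0 := by
    show (iPerm ^ n)⁻¹ (f.1 (bL 0)) = bL 0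
    rw [Equiv.Perm.inv_eq_iff_eq, bL_zero]
    exact hn
  have hline : ∀ i < 16240, ∃ z : GaussianInt, ((w.1 (tL i) : ruLattice) : RuVec) = z • tvec i := by
    intro i hi
    obtain ⟨m, hm⟩ := h i hi
    have hinv : (iPerm ^ n)⁻¹ = (iPerm ^ n) ^ 3 := by
      refine inv_eq_of_mul_eq_one_right ?_
      rw [← pow_succ', ← pow_mul, mul_comm, pow_mul, iPerm_four, one_pow]
    refine ⟨gI ^ (n * 3) * gI ^ m, ?_⟩
    show (((iPerm ^ n)⁻¹ (f.1 (tL i)) : ruLattice) : RuVec) = _
    rw [hm, hinv, ← pow_mul, iPerm_pow, iPerm_pow, tL_val hi, smul_smul]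
  have hP := conn_cert
  rw [connOk, forceNat_eq] at hP
  have hone : ∀ p : Fin 28, w.1 (tL (4 * p.val)) = tL (4 * p.val) := by
    intro p
    have hc := allFrom_spec hP p.val (Nat.zero_le _) (by omega)
    rw [forceNat_eq] at hc
    simp only [Bool.and_eq_true, Bool.not_eq_true', Nat.blt_eq] at hc
    obtain ⟨ht, hk0, hkp⟩ := hc
    set t := Data.conn.getD p.val 0
    have hq : 4 * p.val < 16240 := by omega
    obtain ⟨z, hz⟩ := hline t ht
    obtain ⟨u, hu⟩ := hline _ hq
    have ne : ∀ j, key (tcode t) (packC (tcode j)) ≠ 262400 → ip (tvec t) (tvec j) ≠ 0 := by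
      intro j hne e
      apply hne
      refine Int.ofNat_inj.1 ((key_spec _ _).trans ?_)
      rw [show ip (vecOf (tcode t)) (vecOf (tcode j)) = 0 from e]
      rfl
    have n0 : ip (tvec t) (tvec 0) ≠ 0 := ne 0 fun e => by
      rw [key0, bP_eq (by norm_num), bpt_zero, e] at hk0
      simp at hk0
    have np : ip (tvec t) (tvec (4 * p.val)) ≠ 0 := ne _ fun e => by
      change Nat.beq (key (tcode t) (packC (tcode (4 * p.val)))) 262400 = false at hkp
      rw [e] at hkp
      simp at hkp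
    have i0 := ip_map w.2 (tL t) (bL 0)
    rw [hfix0, hz, bL_zero, tL_val ht, tL_val (by norm_num : 0 < 16240), ip_smul_left] at i0
    have z1 : z = 1 := mul_right_cancel₀ n0 (i0.trans (one_mul _).symm)
    have ip' := ip_map w.2 (tL t) (tL (4 * p.val))
    rw [hz, hu, z1, tL_val ht, tL_val hq, ip_smul_left, ip_smul_right, one_mul] at ip'
    have u1 : u = 1 := by
      have := mul_right_cancel₀ np (ip'.trans (one_mul _).symm)
      rw [← star_star u, this, star_one]
    exact Subtype.ext (by rw [hu, u1, one_smul, tL_val hq])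
  refine Subtype.ext (eq_one_of_axes w.2 hone)

theorem lineHom₀_ker : lineHom₀.ker = Subgroup.center fourRu := by
  refine le_antisymm (fun f hf => mem_center_of_lines fun i hi => ?_) ?_
  · set j := ixOf (f.1 (tL i))
    have hj : j < 16240 := ixOf_lt _
    have e : f.1 (tL i) = tL j := exists_image f hi
    have h := lineFun_line f hi hj e
    rw [← lineHom₀_apply, MonoidHom.mem_ker.1 hf] at h
    have hl : lineOf i = lineOf j := congrArg Fin.val h
    refine ⟨rotOf j + 3 * rotOf i, ?_⟩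
    rw [e]
    calc tL j = (iPerm ^ rotOf j) (tL (lrep (lineOf i))) := by rw [hl, tL_line hj]
      _ = (iPerm ^ (rotOf j + 3 * rotOf i + rotOf i)) (tL (lrep (lineOf i))) := by
        rw [show rotOf j + 3 * rotOf i + rotOf i = rotOf j + 4 * rotOf i by ring, pow_add iPerm,
          pow_mul, iPerm_four, one_pow, mul_one]
      _ = _ := by rw [pow_add, Equiv.Perm.mul_apply, tL_line hi]
  · rw [center_eq, Subgroup.zpowers_le, MonoidHom.mem_ker]
    refine Equiv.ext fun x => Fin.ext ?_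
    have hx := (lrep_spec x.2).1
    obtain ⟨j, hj, e, hl⟩ := line_pow hx 1
    show lineOf (ixOf (iPerm (tL (lrep x)))) = x
    rw [show iPerm (tL (lrep x)) = tL j by simpa using e, ixOf_tL hj, hl, (lrep_spec x.2).2]

/-- The faithful action of the Rudvalis group. -/
noncomputable def lineHom : Cfsg.Spor.Ru →* Equiv.Perm (Fin 4060) :=
  QuotientGroup.lift _ lineHom₀ lineHom₀_ker.ge

theorem lineHom_injective : Function.Injective lineHom :=
  (injective_iff_map_eq_one lineHom).2 fun x => QuotientGroup.induction_on x fun f hf =>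
    (QuotientGroup.eq_one_iff f).2 (lineHom₀_ker.le hf)

theorem ext_mem {g : ℕ} {tgt : PArr} {P : ℕ} (h : extOk g tgt P = true)
    {σ : Equiv.Perm (Fin 4060)} (hσ : ∀ x : Fin 4060, (σ x : ℕ) = Cfsg.Agent.H36.pim 12 P x) :
    σ ∈ lineHom.range := by
  simp only [extOk, forceNat_eq, Bool.and_eq_true] at h
  obtain ⟨⟨⟨hg, hs⟩, hc, hi⟩, ht, hx⟩ := h
  obtain ⟨f, hf, hr⟩ := exists_aut hg hs
    (fun q hq => (tvec_spec (by simpa using allFrom_spec hc q (Nat.zero_le _) (by omega))).1)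
    (fun k hk => (tvec_spec (by simpa using allFrom_spec hi k (Nat.zero_le _) (by omega))).1)
  refine ⟨QuotientGroup.mk' _ ⟨f, hf⟩, Equiv.ext fun x => Fin.ext ?_⟩
  show (lineFun ⟨f, hf⟩ x : ℕ) = σ x
  have e := allFrom_spec hx x.val (Nat.zero_le _) (by omega)
  simp only [forceNat_eq, Bool.and_eq_true, Nat.blt_eq] at e
  obtain ⟨⟨hlt, hline⟩, him⟩ := e
  have hx' := (lrep_spec x.2).1
  have himg : f (tL (lrep x)) = tL (tgt.get 14 x) := by
    refine Subtype.ext (four_inj ?_)
    rw [← hr, tL_val hx', tL_val hlt]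
    exact imgEq_spec (fun a ha => Nat.eq_of_beq_eq_true (allFrom_spec ht a (Nat.zero_le _) (by omega))) him
  show lineOf (ixOf (f (tL (lrep x)))) = σ x
  rw [himg, ixOf_tL hlt, Nat.eq_of_beq_eq_true hline, hσ]

theorem g0_mem : Cfsg.Agent.H56.RuTits.g0 ∈ lineHom.range :=
  ext_mem ext_cert0 Cfsg.Agent.H56.RuTits.g0_apply

theorem g1_mem : Cfsg.Agent.H56.RuTits.g1 ∈ lineHom.range :=
  ext_mem ext_cert1 Cfsg.Agent.H56.RuTits.g1_apply

end Cfsg.Agent.H31.Ru
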