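import Cfsg.Agent.H31.Ru.Good
import Cfsg.Agent.H31.Ru.ClassData2

/-!
The enumeration of the minimal vectors, part 2.
-/

set_option autoImplicit false
set_option maxRecDepth 20000

namespace Cfsg.Agent.H31.Ru

theorem cert2 : forSpan (outer good) (Data.gensA.drop 3)
    (selXor (Data.gensA.take 3) [false, true, false]).1 (selXor (Data.gensA.take 3) [false, true, false]).2 Data.part2 = true := by
  decide +kernel

end Cfsg.Agent.H31.Ru
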