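import Cfsg.Agent.H31.Ru.ResidueBits

/-!
The test of one residue class modulo two.
-/

set_option autoImplicit false

namespace Cfsg.Agent.H31.Ru

open Cfsg.Spor Cfsg.Agent.H10.Ru Cfsg.Agent.H16

/-- Bit count of a word of seven bits. -/
noncomputable def pop7 (x : Nat) : Nat := bitField Data.popPack (Nat.mul 4 (Nat.land x 127)) 4

/-- Bit count of a word of twenty-eight bits. -/
noncomputable def pop28 (x : Nat) : Nat :=
  Nat.add (Nat.add (pop7 x) (pop7 (Nat.shiftRight x 7)))
    (Nat.add (pop7 (Nat.shiftRight x 14)) (pop7 (Nat.shiftRight x 21)))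

/-- Least norm of a class. -/
noncomputable def wgt (P C : Nat) : Nat :=
  Nat.add (pop28 P) (Nat.mul 2 (pop28 (Nat.land C (Nat.xor P 268435455))))

/-- Residue at a position. -/
noncomputable def resAt (P C q : Nat) : Nat :=
  Nat.add (Nat.land (Nat.shiftRight P q) 1) (Nat.mul 2 (Nat.land (Nat.shiftRight C q) 1))

/-- The option with shift `e`. -/
noncomputable def optOf (q r e : Nat) : Opt :=
  (costT r e, wv q e, Nat.shiftLeft (codeT r e) (Nat.mul 4 q))

/-- Cons if the cost fits. -/
noncomputable def consIf (slack : Nat) (o : Opt) (os : List Opt) : List Opt :=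
  Bool.rec os (o :: os) (Nat.ble o.1 slack)

/-- The options at a position. -/
noncomputable def optsAt (slack q r : Nat) : List Opt :=
  consIf slack (optOf q r 0) (consIf slack (optOf q r 1)
    (consIf slack (optOf q r 2) (consIf slack (optOf q r 3) [])))

/-- A position is searched unless its only option is zero. -/
noncomputable def kept (slack P C q : Nat) : Bool :=
  Bool.rec true (Nat.ble 4 slack) (Nat.beq (resAt P C q) 0)

/-- Searched positions: residue two last. -/
noncomputable def posList (slack P C : Nat) : List Nat :=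
  ((List.range 28).filter fun q => !(Nat.beq (resAt P C q) 2) && kept slack P C q) ++
    ((List.range 28).filter fun q => Nat.beq (resAt P C q) 2 && kept slack P C q)

/-- The sum of the syndromes of the representatives. -/
noncomputable def cstSum (P C : Nat) : Nat :=
  List.rec (motive := fun _ => Nat) 0
    (fun q _ ih => forceNat ih fun s => Nat.add (cst q (resAt P C q)) s) (List.range 28)

/-- Membership of a code among the expected entries. -/
noncomputable def okIn (good : Nat → Nat → Bool) (exp : List Nat) (code : Nat) : Bool :=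
  List.rec (motive := fun _ => Bool) (Nat.beq code 0)
    (fun e _ ih => or (and (Nat.beq (Nat.land e 5192296858534827628530496329220095) code)
      (good code (Nat.shiftRight e 112))) ih) exp

/-- The test of a class. -/
noncomputable def classCheck (good : Nat → Nat → Bool) (exp : List Nat) (P C : Nat) : Bool :=
  forceNat (wgt P C) fun n => Bool.rec true
    (forceNat (Nat.sub 16 n) fun slack => forceNat (bits (cstSum P C)) fun t =>
      searchAll (okIn good exp) ((posList slack P C).map fun q => optsAt slack q (resAt P C q))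
        slack t 0)
    (Nat.ble n 16)

/-- The residue at a flattened index. -/
def atIdx (y : RuIdx → R4) (q : ℕ) : R4 := y (idx ⟨q % 28, Nat.mod_lt _ (by norm_num)⟩)

/-- The code of a vector modulo four. -/
def code28 (y : RuIdx → R4) : ℕ := ∑ q ∈ Finset.range 28, code4 (atIdx y q) <<< (4 * q)

theorem okIn_spec {good : ℕ → ℕ → Bool} : ∀ {exp : List ℕ} {c : ℕ}, okIn good exp c = true →
    c = 0 ∨ ∃ i, good c i = true
  | [], c, h => Or.inl (Nat.eq_of_beq_eq_true (show Nat.beq c 0 = true from h))
  | e :: exp, c, h => by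
    have h' : ((Nat.beq (Nat.land e 5192296858534827628530496329220095) c &&
      good c (Nat.shiftRight e 112)) || okIn good exp c) = true := h
    rcases Bool.or_eq_true_iff.1 h' with h' | h'
    · exact Or.inr ⟨_, (Bool.and_eq_true_iff.1 h').2⟩
    · exact okIn_spec h'

theorem pop7_spec : ∀ x : Fin 128, pop7 x.val = ∑ k ∈ Finset.range 7, (x.val >>> k) % 2 := by
  decide +kernel

theorem pop7_eq (x : ℕ) : pop7 x = ∑ k ∈ Finset.range 7, (x >>> k) % 2 := by
  have h : pop7 x = pop7 (x % 128) := by
    show bitField _ (Nat.mul 4 (x &&& 127)) 4 = bitField _ (Nat.mul 4 (x % 128 &&& 127)) 4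
    rw [show (127 : ℕ) = 2 ^ 7 - 1 from rfl, Nat.and_two_pow_sub_one_eq_mod,
      Nat.and_two_pow_sub_one_eq_mod, show (128 : ℕ) = 2 ^ 7 from rfl, Nat.mod_mod]
  rw [h, pop7_spec ⟨x % 128, Nat.mod_lt _ (by norm_num)⟩]
  refine Finset.sum_congr rfl fun k hk => ?_
  rw [Finset.mem_range] at hk
  simp only [Nat.shiftRight_eq_div_pow]
  interval_cases k <;> omega

theorem pop28_eq (x : ℕ) : pop28 x = ∑ q ∈ Finset.range 28, (x >>> q) % 2 := by
  show pop7 x + pop7 (x >>> 7) + (pop7 (x >>> 14) + pop7 (x >>> 21)) = _
  simp only [pop7_eq, ← Nat.shiftRight_add, Finset.sum_range_succ, Finset.sum_range_zero]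
  ring

theorem resAt_eq (P C q : ℕ) :
    resAt P C q = (P >>> q) % 2 + 2 * ((C >>> q) % 2) := by
  show (P >>> q &&& 1) + 2 * (C >>> q &&& 1) = _
  rw [Nat.and_one_is_mod, Nat.and_one_is_mod]

theorem n1_spec : ∀ a b : Fin 2,
    n1 (a.val + 2 * b.val) = a.val + 2 * (if a.val = 0 then b.val else 0) := by decide +kernel

theorem wgt_eq (P C : ℕ) : wgt P C = ∑ q ∈ Finset.range 28, n1 (resAt P C q) := by
  show pop28 P + 2 * pop28 (C &&& (P ^^^ 268435455)) = _
  rw [pop28_eq, pop28_eq, Finset.mul_sum, ← Finset.sum_add_distrib]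
  refine Finset.sum_congr rfl fun q hq => ?_
  rw [Finset.mem_range] at hq
  rw [resAt_eq, n1_spec ⟨_, Nat.mod_lt _ two_pos⟩ ⟨_, Nat.mod_lt _ two_pos⟩]
  have hfull : (268435455 : ℕ).testBit q = true := by
    rw [show (268435455 : ℕ) = 2 ^ 28 - 1 from rfl, Nat.testBit_two_pow_sub_one]
    exact decide_eq_true hq
  have hb : ∀ x : ℕ, (x >>> q) % 2 = (x.testBit q).toNat := fun x => by
    rw [Nat.testBit_eq_decide_div_mod_eq, Nat.shiftRight_eq_div_pow]
    rcases Nat.mod_two_eq_zero_or_one (x / 2 ^ q) with h | h <;> simp [h]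
  simp only [hb, Nat.testBit_and, Nat.testBit_xor, hfull]
  cases P.testBit q <;> cases C.testBit q <;> rfl

theorem consIf_mem {slack : ℕ} {o : Opt} {os : List Opt} :
    (o.1 ≤ slack → o ∈ consIf slack o os) ∧ ∀ o' ∈ os, o' ∈ consIf slack o os := by
  constructor
  · intro h
    show o ∈ (Bool.rec os (o :: os) (Nat.ble o.1 slack) : List Opt)
    rw [Nat.ble_eq_true_of_le h]
    exact List.mem_cons_self
  · intro o' h
    show o' ∈ (Bool.rec os (o :: os) (Nat.ble o.1 slack) : List Opt)
    cases Nat.ble o.1 slack
    exacts [h, List.mem_cons_of_mem _ h]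

theorem mem_optsAt {slack q r e : ℕ} (he : e < 4) (hc : costT r e ≤ slack) :
    optOf q r e ∈ optsAt slack q r := by
  unfold optsAt
  interval_cases e
  · exact consIf_mem.1 hc
  · exact consIf_mem.2 _ (consIf_mem.1 hc)
  · exact consIf_mem.2 _ (consIf_mem.2 _ (consIf_mem.1 hc))
  · exact consIf_mem.2 _ (consIf_mem.2 _ (consIf_mem.2 _ (consIf_mem.1 hc)))

theorem zero_row : ∀ e : Fin 4, (e.val = 0 ∧ costT 0 e = 0 ∧ codeT 0 e = 0) ∨ 4 ≤ costT 0 e := by
  decide +kernel

theorem cstSum_eq (P C : ℕ) : cstSum P C = ∑ q ∈ Finset.range 28, cst q (resAt P C q) := by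
  have key : ∀ l : List ℕ, (List.rec (motive := fun _ => Nat) 0
      (fun q _ ih => forceNat ih fun s => Nat.add (cst q (resAt P C q)) s) l) =
      (l.map fun q => cst q (resAt P C q)).sum := by
    intro l
    induction l with
    | nil => rfl
    | cons q l ih =>
      rw [List.map_cons, List.sum_cons, ← ih]
      exact forceNat_eq _ _
  exact key (List.range 28)

theorem vecs_eq : ∀ σ : List Opt, vecs σ = xorList (σ.map fun o => o.2.1)
  | [] => rfl
  | o :: σ => by rw [vecs, vecs_eq σ]; rfl

theorem xorList_filter {f : ℕ → ℕ} {p : ℕ → Bool} : ∀ l : List ℕ,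
    (∀ q ∈ l, p q = false → f q = 0) → xorList ((l.filter p).map f) = xorList (l.map f)
  | [], _ => rfl
  | q :: l, h => by
    have ih := xorList_filter (f := f) (p := p) l fun a ha => h a (List.mem_cons_of_mem _ ha)
    cases hq : p q
    · rw [List.filter_cons_of_neg (by simp [hq]), ih, List.map_cons, xorList,
        h q List.mem_cons_self hq, Nat.zero_xor]
    · rw [List.filter_cons_of_pos hq, List.map_cons, List.map_cons, xorList, xorList, ih]

theorem sum_filter' {f : ℕ → ℕ} {p : ℕ → Bool} : ∀ l : List ℕ,
    (∀ q ∈ l, p q = false → f q = 0) → ((l.filter p).map f).sum = (l.map f).sum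
  | [], _ => rfl
  | q :: l, h => by
    have ih := sum_filter' (f := f) (p := p) l fun a ha => h a (List.mem_cons_of_mem _ ha)
    cases hq : p q
    · rw [List.filter_cons_of_neg (by simp [hq]), ih, List.map_cons, List.sum_cons,
        h q List.mem_cons_self hq, Nat.zero_add]
    · rw [List.filter_cons_of_pos hq, List.map_cons, List.map_cons, List.sum_cons, List.sum_cons,
        ih]

theorem posList_perm (slack P C : ℕ) :
    (posList slack P C).Perm ((List.range 28).filter fun q => kept slack P C q) := by
  have h := List.filter_append_perm (fun q => !(Nat.beq (resAt P C q) 2))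
    ((List.range 28).filter fun q => kept slack P C q)
  simp only [List.filter_filter, Bool.not_not] at h
  exact h

/-- Soundness of the test. -/
theorem class_sound {good : ℕ → ℕ → Bool} {exp : List ℕ} {P C : ℕ}
    (hc : classCheck good exp P C = true) {y : RuIdx → R4} (hy : ∀ i, ∑ p, cond i p (y p) = 0)
    (hres : ∀ q < 28, resOf (atIdx y q) = resAt P C q)
    (hlow : ∑ q ∈ Finset.range 28, low (atIdx y q) ≤ 16) :
    code28 y = 0 ∨ ∃ i, good (code28 y) i = true := by
  set cost := fun q => costT (resAt P C q) (eOf (atIdx y q)) with hcost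
  have hsplit : ∑ q ∈ Finset.range 28, low (atIdx y q) =
      wgt P C + ∑ q ∈ Finset.range 28, cost q := by
    rw [wgt_eq, ← Finset.sum_add_distrib]
    refine Finset.sum_congr rfl fun q hq => ?_
    rw [(tables_spec _).1, hres q (Finset.mem_range.1 hq)]
  have hn : wgt P C ≤ 16 := by omega
  unfold classCheck at hc
  rw [forceNat_eq, Nat.ble_eq_true_of_le hn] at hc
  simp only [forceNat_eq] at hc
  set slack := Nat.sub 16 (wgt P C) with hslack
  have hsum : ∑ q ∈ Finset.range 28, cost q ≤ slack := by
    show _ ≤ 16 - wgt P C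
    omega
  set o := fun q => optOf q (resAt P C q) (eOf (atIdx y q)) with ho
  have hdrop : ∀ q ∈ List.range 28, kept slack P C q = false →
      cost q = 0 ∧ wv q (eOf (atIdx y q)) = 0 ∧
        codeT (resAt P C q) (eOf (atIdx y q)) = 0 := by
    intro q hq hk
    rw [List.mem_range] at hq
    have hk' : (Bool.rec true (Nat.ble 4 slack) (Nat.beq (resAt P C q) 0) : Bool) = false := hk
    cases hb : Nat.beq (resAt P C q) 0
    · rw [hb] at hk'; simp at hk'
    · rw [hb] at hk'
      have hr := Nat.eq_of_beq_eq_true hb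
      have h4 : slack < 4 := by
        by_contra hh
        rw [Nat.ble_eq_true_of_le (not_lt.1 hh)] at hk'
        exact Bool.noConfusion hk'
      rcases zero_row ⟨_, (decomp (atIdx y q)).2.1⟩ with ⟨h1, h2, h3⟩ | h1
      · simp only [hcost, hr]
        exact ⟨h2, by rw [show eOf (atIdx y q) = 0 from h1]; exact wv_zero ⟨q, hq⟩, h3⟩
      · exfalso
        replace h1 : 4 ≤ costT 0 (eOf (atIdx y q)) := h1
        have h5 := Finset.single_le_sum (f := cost) (fun _ _ => Nat.zero_le _)
          (Finset.mem_range.2 hq)
        simp only [hcost, hr] at h5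
        simp only [hcost] at hsum
        omega
  have hperm := posList_perm slack P C
  have hmem : ∀ q ∈ posList slack P C, q < 28 := fun q hq =>
    List.mem_range.1 (List.mem_of_mem_filter (hperm.mem_iff.1 hq))
  have key := searchAll_spec hc (σ := (posList slack P C).map o) ?_ ?_ ?_
  · rw [Nat.zero_add] at key
    have e : codes ((posList slack P C).map o) = code28 y := by
      have hz : ∀ q ∈ List.range 28, kept slack P C q = false → (o q).2.2 = 0 := fun q hq hk => by
        show codeT (resAt P C q) (eOf (atIdx y q)) <<< (4 * q) = 0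
        rw [(hdrop q hq hk).2.2, Nat.zero_shiftLeft]
      rw [codes, List.map_map, (hperm.map _).sum_eq]
      show ((_ : List ℕ).map fun q => (o q).2.2).sum = _
      rw [sum_filter' _ hz]
      rw [← List.sum_toFinset _ List.nodup_range, List.toFinset_range]
      show _ = ∑ q ∈ Finset.range 28, code4 (atIdx y q) <<< (4 * q)
      refine Finset.sum_congr rfl fun q hq => ?_
      show Nat.shiftLeft (codeT _ _) _ = _
      rw [← hres q (Finset.mem_range.1 hq), ← (tables_spec _).2]
      rfl
    exact okIn_spec (e ▸ key)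
  · rw [List.forall₂_map_left_iff, List.forall₂_map_right_iff, List.forall₂_same]
    intro q hq
    refine mem_optsAt (decomp _).2.1 (le_trans ?_ hsum)
    exact Finset.single_le_sum (f := cost) (fun _ _ => Nat.zero_le _)
      (Finset.mem_range.2 (hmem q hq))
  · rw [costs, List.map_map, (hperm.map _).sum_eq]
    show ((_ : List ℕ).map cost).sum ≤ _
    rw [sum_filter' _ fun q hq hk => (hdrop q hq hk).1]
    exact hsum
  · rw [vecs_eq, List.map_map, xorList_perm (hperm.map _)]
    show xorList ((_ : List ℕ).map fun q => wv q (eOf (atIdx y q))) = _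
    rw [xorList_filter _ fun q hq hk => (hdrop q hq hk).2.1]
    have hc28 : cstSum P C =
        enc fun k => ∑ q : Fin 28, fld (idx q) (resLift (resOf (y (idx q)))) k := by
      rw [cstSum_eq, ← Fin.sum_univ_eq_sum_range]
      have hq : ∀ q : Fin 28, cst q (resAt P C q) =
          enc (fld (idx q) (resLift (resOf (y (idx q))))) := by
        intro q
        have h1 : atIdx y q = y (idx q) := by simp [atIdx, Nat.mod_eq_of_lt q.isLt]
        rw [← hres q q.isLt, h1]
        exact cst_spec q ⟨_, (decomp _).1⟩
      rw [Finset.sum_congr rfl fun q _ => hq q]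
      simp only [enc, Finset.sum_mul]
      exact Finset.sum_comm
    rw [hc28, bits_target hy]
    congr 1

end Cfsg.Agent.H31.Ru
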