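import Mathlib.Init

/-!
Tries of expected solutions.
-/

set_option autoImplicit false

namespace Cfsg.Agent.H31.Ru

/-- A binary trie of lists. -/
inductive ETrie
  | empty
  | leaf (l : List Nat)
  | node (l r : ETrie)

/-- The left child. -/
noncomputable def ETrie.left (t : ETrie) : ETrie :=
  ETrie.rec (motive := fun _ => ETrie) .empty (fun _ => .empty) (fun l _ _ _ => l) t

/-- The right child. -/
noncomputable def ETrie.right (t : ETrie) : ETrie :=
  ETrie.rec (motive := fun _ => ETrie) .empty (fun _ => .empty) (fun _ r _ _ => r) t

/-- The stored list. -/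
noncomputable def ETrie.list (t : ETrie) : List Nat :=
  ETrie.rec (motive := fun _ => List Nat) [] (fun l => l) (fun _ _ _ _ => []) t

end Cfsg.Agent.H31.Ru
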