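import Cfsg.Agent.H31.Ru.MinCheck
import Cfsg.Agent.H31.Ru.Trie

/-!
The loop over the residue classes modulo two.
-/

set_option autoImplicit false

namespace Cfsg.Agent.H31.Ru

open Cfsg.Spor Cfsg.Agent.H10.Ru Cfsg.Agent.H16

/-- Apply a test to all exclusive sums of the generators, following the trie. -/
noncomputable def forSpan (f : Nat → Nat → ETrie → Bool) (gs : List (Nat × Nat)) :
    Nat → Nat → ETrie → Bool :=
  List.rec (motive := fun _ => Nat → Nat → ETrie → Bool) f
    (fun g _ ih P C t => and (ih P C t.left)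
      (forceNat (Nat.xor P g.1) fun P' => forceNat (Nat.xor C g.2) fun C' => ih P' C' t.right)) gs

/-- The exclusive sums of the selected generators. -/
def selXor : List (ℕ × ℕ) → List Bool → ℕ × ℕ
  | g :: gs, b :: bs =>
    if b then (g.1 ^^^ (selXor gs bs).1, g.2 ^^^ (selXor gs bs).2) else selXor gs bs
  | _, _ => (0, 0)

theorem forSpan_spec {f : ℕ → ℕ → ETrie → Bool} : ∀ {gs : List (ℕ × ℕ)} {P C : ℕ} {t : ETrie},
    forSpan f gs P C t = true → ∀ bs : List Bool, bs.length = gs.length →
      ∃ t', f (P ^^^ (selXor gs bs).1) (C ^^^ (selXor gs bs).2) t' = true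
  | [], P, C, t, h, bs, hl => by
    cases bs with
    | nil => exact ⟨t, by simpa [selXor] using (show f P C t = true from h)⟩
    | cons b bs => simp at hl
  | g :: gs, P, C, t, h, bs, hl => by
    cases bs with
    | nil => simp at hl
    | cons b bs =>
      have h' : (forSpan f gs P C t.left && forceNat (Nat.xor P g.1) fun P' =>
          forceNat (Nat.xor C g.2) fun C' => forSpan f gs P' C' t.right) = true := h
      rw [Bool.and_eq_true, forceNat_eq, forceNat_eq] at h'
      simp only [List.length_cons, add_left_inj] at hl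
      cases b
      · simpa [selXor] using forSpan_spec h'.1 bs hl
      · obtain ⟨t', ht'⟩ := forSpan_spec h'.2 bs hl
        refine ⟨t', ?_⟩
        simpa [selXor, Nat.xor_assoc] using ht'

/-- The test below the parity words. -/
noncomputable def outer (good : Nat → Nat → Bool) (P C : Nat) (t : ETrie) : Bool :=
  Bool.rec true (forSpan (fun P C t => classCheck good t.list P C) Data.gensB P C t)
    (Nat.ble (pop28 P) 16)

theorem length_gensA : Data.gensA.length = 9 := rfl

theorem length_gensB : Data.gensB.length = 10 := rfl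

theorem gensB_fst : ∀ j : Fin 10, (Data.gensB.getD j (0, 0)).1 = 0 := by decide +kernel

theorem selXor_fst_zero : ∀ {gs : List (ℕ × ℕ)}, (∀ g ∈ gs, g.1 = 0) → ∀ bs,
    (selXor gs bs).1 = 0
  | [], _, bs => by cases bs <;> rfl
  | g :: gs, h, [] => rfl
  | g :: gs, h, b :: bs => by
    have ih := selXor_fst_zero (fun a ha => h a (List.mem_cons_of_mem _ ha)) bs
    cases b <;> simp [selXor, ih, h g List.mem_cons_self]

theorem bit_eq_word (m : ℕ) (q : Fin 28) :
    word m (idx q) = ((m >>> q.val % 2 : ℕ) : ZMod 2) := by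
  rw [word, flat_idx, Nat.testBit_eq_decide_div_mod_eq, Nat.shiftRight_eq_div_pow]
  rcases Nat.mod_two_eq_zero_or_one (m / 2 ^ q.val) with h | h <;> simp [h]

theorem word_selXor (pr : ℕ × ℕ → ℕ) (hpr : pr = Prod.fst ∨ pr = Prod.snd) :
    ∀ (gs : List (ℕ × ℕ)) (bs : List Bool), bs.length = gs.length →
      word (pr (selXor gs bs)) =
        ((gs.zip bs).map fun gb => (if gb.2 then (1 : ZMod 2) else 0) • word (pr gb.1)).sum
  | [], [], _ => by rcases hpr with rfl | rfl <;> simp [selXor, word_zero]
  | [], b :: bs, h => by simp at h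
  | g :: gs, [], h => by simp at h
  | g :: gs, b :: bs, h => by
    have ih := word_selXor pr hpr gs bs (by simpa using h)
    cases b <;> rcases hpr with rfl | rfl <;>
      simp only [selXor, List.zip_cons_cons, List.map_cons, List.sum_cons, if_true, if_false,
        Bool.false_eq_true, zero_smul, one_smul, zero_add, word_xor, ih]

theorem basis_par : ∀ (j : Fin 28) (p : RuIdx), par4 (bVec j p) =
    if j.val < 9 then word (Data.gensA.getD j (0, 0)).1 p else 0 := by decide +kernel

theorem basis_im : ∀ (j : Fin 28) (p : RuIdx), imPar (bVec j p) =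
    if j.val < 9 then word (Data.gensA.getD j (0, 0)).2 p
    else if j.val = 9 then word (Data.gensB.getD 9 (0, 0)).2 p else 0 := by decide +kernel

theorem basis_pi : ∀ (j : Fin 9) (p : RuIdx),
    word (Data.gensB.getD j (0, 0)).2 p = word (Data.gensA.getD j (0, 0)).1 p := by decide +kernel

theorem sel_of_zmod (a : ZMod 2) : (if decide (a = 1) = true then (1 : ZMod 2) else 0) = a := by
  revert a; decide

theorem zip_sum (l : List (ℕ × ℕ)) (n : ℕ) (hn : l.length = n) (c : Fin n → ZMod 2)
    (pr : ℕ × ℕ → ℕ) (p : RuIdx) :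
    ((l.zip (List.ofFn fun j => decide (c j = 1))).map
      fun gb => (if gb.2 then (1 : ZMod 2) else 0) • word (pr gb.1)).sum p =
        ∑ j : Fin n, c j * word (pr (l.getD j (0, 0))) p := by
  subst hn
  have e : l.zip (List.ofFn fun j => decide (c j = 1)) =
      List.ofFn fun j : Fin l.length => (l.getD j (0, 0), decide (c j = 1)) := by
    refine List.ext_getElem (by simp) fun i h1 h2 => ?_
    have hi : i < l.length := by simpa using h2
    simp [List.getD_eq_getElem?_getD, List.getElem?_eq_getElem hi]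
  rw [e, List.map_ofFn, List.sum_ofFn, Finset.sum_apply]
  refine Finset.sum_congr rfl fun j _ => ?_
  simp only [Function.comp_apply, Pi.smul_apply, smul_eq_mul, sel_of_zmod]

/-- Residues of lattice vectors are among the exclusive sums. -/
theorem exists_sel {x : RuIdx → R4} (hx : x ∈ modS) :
    ∃ bA bB : List Bool, bA.length = Data.gensA.length ∧ bB.length = Data.gensB.length ∧
      (∀ p, par4 (x p) = word (selXor Data.gensA bA).1 p) ∧
      ∀ p, imPar (x p) =
        word ((selXor Data.gensA bA).2 ^^^ (selXor Data.gensB bB).2) p := by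
  obtain ⟨d, rfl⟩ := exists_coeff hx
  set cA : Fin 9 → ZMod 2 := fun j => par4 (d ⟨j.val, by omega⟩)
  set cB : Fin 10 → ZMod 2 := fun j =>
    if j.val < 9 then imPar (d ⟨j.val, by omega⟩) else par4 (d ⟨j.val, by omega⟩)
  refine ⟨List.ofFn fun j => decide (cA j = 1), List.ofFn fun j => decide (cB j = 1),
    by simp [length_gensA], by simp [length_gensB], fun p => ?_, fun p => ?_⟩
  · rw [word_selXor Prod.fst (Or.inl rfl) _ _ (by simp [length_gensA]),
      zip_sum _ _ length_gensA, Finset.sum_apply, map_sum]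
    simp only [Pi.smul_apply, smul_eq_mul, map_mul, basis_par]
    simp [Fin.sum_univ_succ, cA]
  · rw [word_xor, Pi.add_apply, word_selXor Prod.snd (Or.inr rfl) _ _ (by simp [length_gensA]),
      word_selXor Prod.snd (Or.inr rfl) _ _ (by simp [length_gensB]),
      zip_sum _ _ length_gensA, zip_sum _ _ length_gensB, Finset.sum_apply,
      show imPar (∑ j, (d j • bVec j) p) = _ from map_sum imParHom _ _]
    show ∑ j, imPar ((d j • bVec j) p) = _
    simp only [Pi.smul_apply, smul_eq_mul, imPar_mul, basis_par, basis_im]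
    have hp : ∀ j, j < 9 → word (Data.gensB[j]?.getD (0, 0)).2 p =
        word (Data.gensA[j]?.getD (0, 0)).1 p := fun j hj => by
      simpa [List.getD_eq_getElem?_getD] using basis_pi ⟨j, hj⟩ p
    simp [Fin.sum_univ_succ, cA, cB, hp]
    ring

/-- Outcome of the loop. -/
theorem loop_sound {good : ℕ → ℕ → Bool} {t : ETrie}
    (h : forSpan (outer good) Data.gensA 0 0 t = true) {x : RuVec} (hx : x ∈ ruLattice)
    (hn : ruNorm x ≤ 16) :
    code28 (redVec x) = 0 ∨ ∃ i, good (code28 (redVec x)) i = true := by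
  have hS := redVec_mem hx
  obtain ⟨bA, bB, hA, hB, hP, hC⟩ := exists_sel hS
  obtain ⟨t₁, ht₁⟩ := forSpan_spec h bA hA
  rw [Nat.zero_xor, Nat.zero_xor] at ht₁
  set P := (selXor Data.gensA bA).1
  set C0 := (selXor Data.gensA bA).2
  have hfl : ∀ q : Fin 28, atIdx (redVec x) q = redVec x (idx q) := fun q => by
    simp [atIdx, Nat.mod_eq_of_lt q.isLt]
  have hlow : ∑ q ∈ Finset.range 28, low (atIdx (redVec x) q) ≤ 16 := by
    rw [← Fin.sum_univ_eq_sum_range fun q => low (atIdx (redVec x) q)]
    have hb : Function.Bijective idx :=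
      ⟨fun a b e => Fin.ext (by rw [← flat_idx a, e, flat_idx]), fun p => ⟨_, idx_flat p⟩⟩
    simp only [hfl]
    rw [hb.sum_comp fun p => low (redVec x p)]
    have : ((∑ p, low (redVec x p) : ℕ) : ℤ) ≤ 16 := by
      push_cast
      exact (Finset.sum_le_sum fun p _ => low_le_norm (x p)).trans hn
    exact_mod_cast this
  have hres : ∀ C : ℕ, (∀ p, imPar (redVec x p) = word C p) →
      ∀ q < 28, resOf (atIdx (redVec x) q) = resAt P C q := by
    intro C hC q hq
    have e1 := hP (idx ⟨q, hq⟩)
    have e2 := hC (idx ⟨q, hq⟩)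
    rw [← hfl ⟨q, hq⟩, bit_eq_word] at e1 e2
    have key : ∀ (a : R4) (u v : Fin 2), par4 a = (u.val : ZMod 2) → imPar a = (v.val : ZMod 2) →
        resOf a = u.val + 2 * v.val := by decide +kernel
    rw [resAt_eq]
    exact key _ ⟨_, Nat.mod_lt _ two_pos⟩ ⟨_, Nat.mod_lt _ two_pos⟩ e1 e2
  have hpop : pop28 P ≤ 16 := by
    refine le_trans ?_ hlow
    rw [pop28_eq]
    refine Finset.sum_le_sum fun q hq => ?_
    have e := hres _ hC q (Finset.mem_range.1 hq)
    rw [(tables_spec _).1, e, resAt_eq, n1_spec ⟨_, Nat.mod_lt _ two_pos⟩ ⟨_, Nat.mod_lt _ two_pos⟩]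
    simp only
    omega
  unfold outer at ht₁
  rw [Nat.ble_eq_true_of_le hpop] at ht₁
  obtain ⟨t₂, ht₂⟩ := forSpan_spec ht₁ bB hB
  rw [selXor_fst_zero (fun g hg => by
    obtain ⟨j, hj, rfl⟩ := List.getElem_of_mem hg
    have := gensB_fst ⟨j, length_gensB ▸ hj⟩
    rwa [List.getD_eq_getElem _ _ hj] at this), Nat.xor_zero] at ht₂
  refine class_sound ht₂ (fun i => ?_) (hres _ hC) hlow
  have := hS ⟨18 + i.val, by omega⟩
  simp only [app, Finset.mul_sum, ← mul_assoc] at this
  exact this

end Cfsg.Agent.H31.Ru
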