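import Cfsg.Agent.H31.Ru.Good
import Cfsg.Agent.H31.Ru.Key
import Cfsg.Agent.H31.Ru.MinCert0
import Cfsg.Agent.H31.Ru.MinCert1
import Cfsg.Agent.H31.Ru.MinCert2
import Cfsg.Agent.H31.Ru.MinCert3
import Cfsg.Agent.H31.Ru.MinCert4
import Cfsg.Agent.H31.Ru.MinCert5
import Cfsg.Agent.H31.Ru.MinCert6
import Cfsg.Agent.H31.Ru.MinCert7

/-!
The minimal vectors are those of the table.
-/

set_option autoImplicit false

namespace Cfsg.Agent.H31.Ru

open Cfsg.Spor Cfsg.Agent.H10.Ru Cfsg.Agent.H16

/-- The vector with a given index. -/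
noncomputable def tvec (i : ℕ) : RuVec := vecOf (tcode i)

/-- The whole trie. -/
noncomputable def root : ETrie :=
  .node (.node (.node Data.part0 Data.part1) (.node Data.part2 Data.part3))
    (.node (.node Data.part4 Data.part5) (.node Data.part6 Data.part7))

theorem loop_root : forSpan (outer good) Data.gensA 0 0 root = true := by
  have h : ∀ b₀ b₁ b₂ : Bool, forSpan (outer good) (Data.gensA.drop 3)
      (selXor (Data.gensA.take 3) [b₀, b₁, b₂]).1 (selXor (Data.gensA.take 3) [b₀, b₁, b₂]).2
      (if b₀ then (if b₁ then (if b₂ then Data.part7 else Data.part6)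
        else (if b₂ then Data.part5 else Data.part4))
      else (if b₁ then (if b₂ then Data.part3 else Data.part2)
        else (if b₂ then Data.part1 else Data.part0))) = true := by
    intro b₀ b₁ b₂
    cases b₀ <;> cases b₁ <;> cases b₂
    exacts [cert0, cert1, cert2, cert3, cert4, cert5, cert6, cert7]
  have hl : Data.gensA = Data.gensA.take 3 ++ Data.gensA.drop 3 := (List.take_append_drop _ _).symm
  obtain ⟨g₀, g₁, g₂, hg⟩ : ∃ g₀ g₁ g₂, Data.gensA.take 3 = [g₀, g₁, g₂] := ⟨_, _, _, rfl⟩
  rw [hg] at hl h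
  rw [hl]
  have step : ∀ (g : ℕ × ℕ) (gs : List (ℕ × ℕ)) (P C : ℕ) (l r : ETrie),
      forSpan (outer good) (g :: gs) P C (.node l r) =
        (forSpan (outer good) gs P C l && forSpan (outer good) gs (P ^^^ g.1) (C ^^^ g.2) r) := by
    intro g gs P C l r
    show (forSpan (outer good) gs P C l && forceNat (Nat.xor P g.1) fun P' =>
      forceNat (Nat.xor C g.2) fun C' => forSpan (outer good) gs P' C' r) = _
    rw [forceNat_eq, forceNat_eq]
    rfl
  simp only [root, List.cons_append, List.nil_append, step, Bool.and_eq_true]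
  have e := fun b₀ b₁ b₂ => h b₀ b₁ b₂
  refine ⟨⟨⟨?_, ?_⟩, ?_, ?_⟩, ⟨?_, ?_⟩, ?_, ?_⟩
  · simpa [selXor] using e false false false
  · simpa [selXor] using e false false true
  · simpa [selXor] using e false true false
  · simpa [selXor, Nat.xor_assoc] using e false true true
  · simpa [selXor] using e true false false
  · simpa [selXor, Nat.xor_assoc] using e true false true
  · simpa [selXor, Nat.xor_assoc] using e true true false
  · simpa [selXor, Nat.xor_assoc] using e true true true

theorem code28_inj {y y' : RuIdx → R4} (h : code28 y = code28 y') : y = y' := by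
  have e : ∀ z : RuIdx → R4, code28 z = ∑ q : Fin 28, code4 (z (idx q)) * 16 ^ q.val := by
    intro z
    rw [code28, ← Fin.sum_univ_eq_sum_range fun q => code4 (atIdx z q) <<< (4 * q)]
    refine Finset.sum_congr rfl fun q _ => ?_
    rw [Nat.shiftLeft_eq, pow_mul]
    simp [atIdx, Nat.mod_eq_of_lt q.isLt]
  funext p
  obtain ⟨q, rfl⟩ : ∃ q, idx q = p := ⟨_, idx_flat p⟩
  apply code4_inj
  rw [e, e] at h
  have h1 := digit 16 (fun q => code4 (y (idx q))) (fun k => code4_lt _) q
  rw [h, digit 16 (fun q => code4 (y' (idx q))) (fun k => code4_lt _) q] at h1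
  exact h1.symm

set_option maxHeartbeats 4000000 in
theorem axial : ∀ (a : Fin 112) (p : RuIdx), tvec a p = 4 * atomVec a p := by decide +kernel

theorem eq_of_congr4 {z w : GaussianInt} (h : red4 z = red4 w) (hw : w.norm = 1)
    (hz : z.norm ≤ 1) : z = w := by
  have hre : (z.re : ZMod 4) = (w.re : ZMod 4) := congrArg QuadraticAlgebra.re h
  have him : (z.im : ZMod 4) = (w.im : ZMod 4) := congrArg QuadraticAlgebra.im h
  rw [ZMod.intCast_eq_intCast_iff_dvd_sub] at hre him
  rw [two_norm] at hw hz
  push_cast at hre him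
  have : -1 ≤ z.re ∧ z.re ≤ 1 ∧ -1 ≤ z.im ∧ z.im ≤ 1 ∧ -1 ≤ w.re ∧ w.re ≤ 1 ∧ -1 ≤ w.im ∧ w.im ≤ 1 := by
    refine ⟨?_, ?_, ?_, ?_, ?_, ?_, ?_, ?_⟩ <;> nlinarith
  refine Zsqrtd.ext ?_ ?_ <;> omega

/-- The minimal vectors are those of the table. -/
theorem exists_tvec {x : RuVec} (hx : x ∈ ruLattice) (hn : ruNorm x = 16) :
    ∃ i < 16240, x = tvec i := by
  have hb : Function.Bijective idx :=
    ⟨fun a b e => Fin.ext (by rw [← flat_idx a, e, flat_idx]), fun p => ⟨_, idx_flat p⟩⟩
  rcases loop_sound loop_root hx hn.le with h0 | ⟨i, hi⟩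
  · -- a multiple of four
    have hz : redVec x = 0 := code28_inj (h0.trans (by
      rw [code28]
      exact (Finset.sum_eq_zero fun q _ => by
        rw [show code4 (atIdx (0 : RuIdx → R4) q) = 0 from rfl, Nat.zero_shiftLeft]).symm))
    have hdiv : ∀ p, ∃ y : GaussianInt, x p = 4 * y := by
      intro p
      have h4 : red4 (x p) = 0 := congr_fun hz p
      have hre : ((x p).re : ZMod 4) = 0 := congrArg QuadraticAlgebra.re h4
      have him : ((x p).im : ZMod 4) = 0 := congrArg QuadraticAlgebra.im h4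
      obtain ⟨a, ha⟩ := (ZMod.intCast_zmod_eq_zero_iff_dvd _ 4).1 hre
      obtain ⟨b, hb'⟩ := (ZMod.intCast_zmod_eq_zero_iff_dvd _ 4).1 him
      exact ⟨⟨a, b⟩, Zsqrtd.ext (by rw [ha]; simp) (by rw [hb']; simp)⟩
    choose y hy using hdiv
    have h1 : ∑ p, (y p).norm = 1 := by
      rw [ruNorm, Finset.sum_congr rfl fun p _ => by rw [hy p, Zsqrtd.norm_mul], ← Finset.mul_sum] at hn
      rw [show (4 : GaussianInt).norm = 16 by decide] at hn
      omega
    obtain ⟨p, hp⟩ : ∃ p, y p ≠ 0 := by
      by_contra hc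
      push Not at hc
      simp [hc] at h1
    have hnn : ∀ q, 0 ≤ (y q).norm := fun q => GaussianInt.norm_nonneg _
    have hother : ∀ q, q ≠ p → y q = 0 := by
      intro q hq
      have h2 := Finset.add_sum_erase Finset.univ (fun q => (y q).norm) (Finset.mem_univ p)
      have h3 := Finset.single_le_sum (f := fun q => (y q).norm) (fun q _ => hnn q)
        (Finset.mem_erase.2 ⟨hq, Finset.mem_univ q⟩)
      have := GaussianInt.norm_pos.mpr hp
      have := hnn q
      exact GaussianInt.norm_eq_zero.mp (by omega)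
    have hp1 : (y p).norm = 1 :=
      (Finset.sum_eq_single (f := fun q => (y q).norm) p
        (fun q _ hq => by rw [hother q hq, Zsqrtd.norm_zero]) (by simp)).symm.trans h1
    obtain ⟨r, hr⟩ : ∃ r : Fin 4, y p = rot r := by
      rw [two_norm] at hp1
      have : -1 ≤ (y p).re ∧ (y p).re ≤ 1 ∧ -1 ≤ (y p).im ∧ (y p).im ≤ 1 := by
        refine ⟨?_, ?_, ?_, ?_⟩ <;> nlinarith
      have key : ∀ a b : Fin 3, ((a.val : ℤ) - 1) * ((a.val : ℤ) - 1) +
          ((b.val : ℤ) - 1) * ((b.val : ℤ) - 1) = 1 →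
          ∃ r : Fin 4, (⟨(a.val : ℤ) - 1, (b.val : ℤ) - 1⟩ : GaussianInt) = rot r := by decide
      obtain ⟨r, hr⟩ := key ⟨((y p).re + 1).toNat, by omega⟩ ⟨((y p).im + 1).toNat, by omega⟩
        (by simp only; rw [Int.toNat_of_nonneg (by omega), Int.toNat_of_nonneg (by omega)]; linarith)
      refine ⟨r, hr ▸ Zsqrtd.ext ?_ ?_⟩ <;>
        simp only <;> rw [Int.toNat_of_nonneg (by omega)] <;> ring
    have hlt : 4 * flat p + r.val < 112 := by have := flat_lt p; omega
    refine ⟨4 * flat p + r.val, by omega, funext fun q => ?_⟩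
    rw [hy q, axial ⟨_, hlt⟩ q, atomVec]
    have e1 : (4 * flat p + r.val) / 4 = flat p := by omega
    have e2 : rot (4 * flat p + r.val) = rot r.val := by
      unfold rot
      rw [show (4 * flat p + r.val) % 4 = r.val % 4 by omega]
    simp only [e1, e2]
    by_cases hq : q = p
    · subst hq; rw [if_pos rfl, hr]
    · rw [if_neg (fun e => hq (flat_injective e)), hother q hq]
  · obtain ⟨hlt, hcode, hent, hnorm⟩ := good_spec hi
    refine ⟨i, hlt, ?_⟩
    have hred : ∀ p, red4 (x p) = red4 (tvec i p) := congr_fun (code28_inj hcode.symm)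
    have hle : ∀ p, (tvec i p).norm ≤ (x p).norm := by
      intro p
      rcases hent p with h | h
      · rw [show tvec i p = 0 from h, Zsqrtd.norm_zero]; exact GaussianInt.norm_nonneg _
      · rw [show (tvec i p).norm = 1 from h]
        have hne : x p ≠ 0 := fun e => by
          have e' := hred p
          rw [e, map_zero] at e'
          have hu : ∀ r : ℤ, ∀ s : ℤ, r * r + s * s = 1 → ((r : ZMod 4) ≠ 0 ∨ (s : ZMod 4) ≠ 0) := by
            intro r s hrs
            have : -1 ≤ r ∧ r ≤ 1 ∧ -1 ≤ s ∧ s ≤ 1 := by refine ⟨?_, ?_, ?_, ?_⟩ <;> nlinarith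
            obtain ⟨a1, a2, a3, a4⟩ := this
            interval_cases r <;> interval_cases s <;> revert hrs <;> decide
          rw [show (vecOf (tcode i) p).norm = _ from two_norm _] at h
          rcases hu _ _ h with h' | h'
          · exact h' (congrArg QuadraticAlgebra.re e').symm
          · exact h' (congrArg QuadraticAlgebra.im e').symm
        have := GaussianInt.norm_pos.mpr hne
        omega
    have heq : ∀ p, (tvec i p).norm = (x p).norm := by
      have := (Finset.sum_eq_sum_iff_of_le fun p (_ : p ∈ Finset.univ) => hle p).1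
        (hnorm.trans hn.symm)
      exact fun p => this p (Finset.mem_univ p)
    funext p
    rcases hent p with h | h
    · have e := heq p
      rw [show tvec i p = 0 from h, Zsqrtd.norm_zero] at e
      rw [GaussianInt.norm_eq_zero.mp e.symm, show tvec i p = 0 from h]
    · exact eq_of_congr4 (hred p) h (heq p ▸ (show (tvec i p).norm ≤ 1 from h.le))

end Cfsg.Agent.H31.Ru
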