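import Cfsg.Agent.H31.Ru.RelDefs

/-!
The relations between the nodes, part 1.
-/

set_option autoImplicit false
set_option maxRecDepth 100000

namespace Cfsg.Agent.H31.Ru

open Cfsg.Agent.H16

theorem rels_cert1 : allFrom relOk 125 125 = true := by decide +kernel

end Cfsg.Agent.H31.Ru
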