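import Cfsg.Agent.H31.Ru.SynData
import Cfsg.Agent.H31.Ru.RelCert0
import Cfsg.Agent.H31.Ru.RelCert1
import Cfsg.Agent.H31.Ru.Aut

/-!
The nodes of the certificate are automorphisms of the lattice.
-/

set_option autoImplicit false

namespace Cfsg.Agent.H31.Ru

open Cfsg.Spor Cfsg.Agent.H10.Ru Cfsg.Agent.H16

/-! Membership by congruences. -/

/-- A congruence condition on an atom. -/
def atCond (j : Fin 28) (a : ℕ) : R4 :=
  pi4 ^ (4 - expo j) * vMat j (idx ⟨a / 4 % 28, Nat.mod_lt _ (by norm_num)⟩) * red4 (rot a)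

/-- The congruences on an atom, eight bits for each part. -/
noncomputable def atSyn (a : Nat) : Nat :=
  bitField Data.synPack (Nat.mul 448 a) 448

/-- All congruences on a code. -/
noncomputable def latOk (c : Nat) : Bool :=
  forceNat (sum16 atSyn c) fun S =>
    allFrom (fun k => Nat.beq (Nat.land (Nat.shiftRight S (Nat.mul 8 k)) 3) 0) 56 0

/-- The fields of the congruences on an atom. -/
def synField (a : ℕ) (k : Fin 56) : ℕ :=
  if k.val % 2 = 0 then (atCond ⟨k.val / 2, by omega⟩ a).re.val
  else (atCond ⟨k.val / 2, by omega⟩ a).im.val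

set_option maxHeartbeats 4000000 in
theorem atSyn_spec : ∀ a : Fin 112, atSyn a = ∑ k : Fin 56, synField a k * 256 ^ k.val := by
  decide +kernel

theorem sum_re_im (l : List ℕ) (g : ℕ → R4) :
    (l.map g).sum.re = (((l.map fun a => (g a).re.val).sum : ℕ) : ZMod 4) ∧
      (l.map g).sum.im = (((l.map fun a => (g a).im.val).sum : ℕ) : ZMod 4) := by
  induction l with
  | nil => simp
  | cons a l ih => simp [ih.1, ih.2]

theorem latOk_conds {c : ℕ} (h : latOk c = true) (j : Fin 28) :
    ((atoms c).map (atCond j)).sum = 0 := by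
  rw [latOk, forceNat_eq] at h
  set F : Fin 56 → ℕ := fun k => ((atoms c).map fun a => synField a k).sum with hF
  have hlt : ∀ k, F k < 256 := by
    intro k
    have : ∀ l : List ℕ, (l.map fun a => synField a k).sum ≤ 3 * l.length := by
      intro l
      induction l with
      | nil => simp
      | cons a l ih =>
        have : synField a k < 4 := by unfold synField; split_ifs <;> exact ZMod.val_lt _
        simp only [List.map_cons, List.sum_cons, List.length_cons]
        omega
    have := this (atoms c)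
    rw [length_atoms] at this
    show ((atoms c).map fun a => synField a k).sum < 256
    omega
  have hS : sum16 atSyn c = ∑ k, F k * 256 ^ k.val := by
    have hcong : ∀ a ∈ atoms c, atSyn a = (fun a => ∑ k : Fin 56, synField a k * 256 ^ k.val) a :=
      fun a ha => atSyn_spec ⟨a, mem_atoms_lt ha⟩
    rw [sum16_eq, List.map_congr_left hcong]
    simp only [hF]
    generalize atoms c = l
    induction l with
    | nil => simp
    | cons a l ih => simp [ih, add_mul, Finset.sum_add_distrib]
  have hz : ∀ k : Fin 56, (F k : ZMod 4) = 0 := by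
    intro k
    have hk := Nat.eq_of_beq_eq_true (allFrom_spec h k.val (Nat.zero_le _) (by omega))
    have d := digit 256 F hlt k
    rw [← hS, ← show 2 ^ (8 * k.val) = 256 ^ k.val by rw [pow_mul]; rfl,
      ← Nat.shiftRight_eq_div_pow] at d
    change sum16 atSyn c >>> (8 * k.val) &&& 3 = 0 at hk
    rw [show (3 : ℕ) = 2 ^ 2 - 1 from rfl, Nat.and_two_pow_sub_one_eq_mod] at hk
    rw [ZMod.natCast_eq_zero_iff]
    omega
  have h0 := hz ⟨2 * j.val, by omega⟩
  have h1 := hz ⟨2 * j.val + 1, by omega⟩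
  simp only [hF, synField, Nat.mul_mod_right, Nat.mul_add_mod, ↓reduceIte, one_ne_zero,
    Nat.mul_div_cancel_left _ two_pos, Nat.one_mod, show (2 * j.val + 1) / 2 = j.val by omega] at h0 h1
  exact QuadraticAlgebra.ext ((sum_re_im _ _).1.trans h0) ((sum_re_im _ _).2.trans h1)

theorem app_atom (j : Fin 28) {a : ℕ} (ha : a < 112) :
    app j (redVec (atomVec a)) = vMat j (idx ⟨a / 4 % 28, Nat.mod_lt _ (by norm_num)⟩) * red4 (rot a) := by
  have e : a / 4 % 28 = a / 4 := Nat.mod_eq_of_lt (by omega)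
  unfold app
  rw [Finset.sum_eq_single (idx ⟨a / 4 % 28, Nat.mod_lt _ (by norm_num)⟩)]
  · show _ * red4 (atomVec a _) = _
    rw [atomVec, flat_idx, if_pos e]
  · intro p _ hp
    show _ * red4 (atomVec a p) = 0
    rw [atomVec, if_neg, map_zero, mul_zero]
    intro h
    exact hp (flat_injective ((h.trans e.symm).trans
      (flat_idx ⟨a / 4 % 28, Nat.mod_lt _ (by norm_num)⟩).symm))
  · simp

theorem app_list (j : Fin 28) : ∀ l : List ℕ, (∀ a ∈ l, a < 112) →
    pi4 ^ (4 - expo j) * app j (redVec (l.map atomVec).sum) = (l.map (atCond j)).sum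
  | [], _ => by simp [app]
  | a :: l, h => by
    rw [List.map_cons, List.map_cons, List.sum_cons, List.sum_cons, map_add, app_add, mul_add,
      app_list j l fun b hb => h b (List.mem_cons_of_mem _ hb), app_atom _ (h a List.mem_cons_self)]
    unfold atCond
    ring

theorem mem_of_latOk {c : ℕ} (h : latOk c = true) : vecOf c ∈ ruLattice :=
  mem_lattice_of_redVec fun j =>
    (app_list j (atoms c) fun _ ha => mem_atoms_lt ha).trans (latOk_conds h j)

/-! Base nodes. -/

/-- The base nodes are matrices of lattice automorphisms. -/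
noncomputable def baseOk (n : Nat) : Bool :=
  and (and (gramOk (nodeCol n)) (spanOk (nodeCol n) (nodeImg n)))
    (and (allFrom (fun q => latOk (tcode (nodeCol n q))) 28 0)
      (allFrom (fun k => latOk (tcode (nodeImg n k))) 26 0))

theorem lin_sum (col : ℕ → ℕ) {ι : Type*} (s : Finset ι) (f : ι → RuVec) :
    lin col (∑ i ∈ s, f i) = ∑ i ∈ s, lin col (f i) := by
  let L : RuVec →+ RuVec :=
    { toFun := lin col, map_zero' := by simp [lin], map_add' := lin_add _ }
  exact map_sum L f s

theorem lin_nsmul (col : ℕ → ℕ) (v : RuVec) : lin col ((4 : ℕ) • v) = (4 : ℕ) • lin col v := by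
  let L : RuVec →+ RuVec :=
    { toFun := lin col, map_zero' := by simp [lin], map_add' := lin_add _ }
  exact map_nsmul L 4 v

theorem lin_comp {cl cr cp : ℕ → ℕ}
    (h : ∀ q : Fin 28, lin cl (vecOf (cr q)) = (4 : ℕ) • vecOf (cp q)) (v : RuVec) :
    lin cl (lin cr v) = (4 : ℕ) • lin cp v := by
  conv_lhs => arg 2; rw [lin]
  rw [lin_sum, lin, Finset.smul_sum]
  exact Finset.sum_congr rfl fun q _ => by rw [lin_smul, h q, smul_comm]

theorem rep_mul {cl cr cp : ℕ → ℕ} {f g : Equiv.Perm ruLattice}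
    (h : ∀ q : Fin 28, lin cl (vecOf (cr q)) = (4 : ℕ) • vecOf (cp q))
    (hf : IsRep cl f) (hg : IsRep cr g) : IsRep cp (f * g) := by
  intro v
  refine four_inj ?_
  rw [← lin_comp h, hg v, lin_nsmul, hf (g v)]
  rfl

theorem axial_vec (q : Fin 28) (p : RuIdx) :
    tvec (4 * q.val) p = if p = idx q then 4 else 0 := by
  have e := axial ⟨4 * q.val, by omega⟩ p
  simp only at e
  rw [e, atomVec]
  have e1 : 4 * q.val / 4 = q.val := by omega
  have e2 : rot (4 * q.val) = 1 := by
    have : ∀ q : Fin 28, rot (4 * q.val) = 1 := by decide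
    exact this q
  simp only [e1, e2]
  by_cases hp : p = idx q
  · subst hp; rw [if_pos (flat_idx q), if_pos rfl, mul_one]
  · rw [if_neg hp, if_neg fun h => hp (flat_injective (h.trans (flat_idx q).symm)), mul_zero]

theorem rep_one : IsRep (fun q => tcode (4 * q)) 1 := by
  intro v
  funext p
  obtain ⟨r, rfl⟩ : ∃ r, idx r = p := ⟨_, idx_flat p⟩
  rw [lin, Finset.sum_apply, Finset.sum_eq_single r]
  · show _ * tvec (4 * r.val) (idx r) = _
    rw [axial_vec, if_pos rfl]
    simp [mul_comm]
  · intro q _ hq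
    show _ * tvec (4 * q.val) (idx r) = 0
    rw [axial_vec, if_neg, mul_zero]
    exact fun e => hq (Fin.ext (by rw [← flat_idx q, ← e, flat_idx]))
  · simp

theorem lin_cancel {cl : ℕ → ℕ} {f : Equiv.Perm ruLattice} (hf : IsRep cl f) {u w : RuVec}
    (h : lin cl u = lin cl w) : u = w := by
  have e : ∀ x : RuVec, (4 : ℕ) • x ∈ ruLattice := fun x => by
    have h4 := four_mul_mem x
    convert h4 using 1
    funext p
    simp
  have h1 := hf ⟨_, e u⟩
  have h2 := hf ⟨_, e w⟩
  rw [lin_nsmul, h, ← lin_nsmul, h2] at h1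
  exact four_inj (congrArg Subtype.val (f.injective (Subtype.ext (four_inj h1)))).symm

theorem rep_inv {cl cr cp : ℕ → ℕ} {g : Equiv.Perm ruLattice}
    (h : ∀ q : Fin 28, lin cl (vecOf (cr q)) = (4 : ℕ) • vecOf (cp q))
    (hl : IsRep cl g) (hp : IsRep cp 1) : IsRep cr g⁻¹ := by
  intro v
  refine lin_cancel hl ?_
  rw [lin_comp h, hp v, lin_nsmul, hl (g⁻¹ v)]
  simp

theorem relCheck_spec {L R P : ℕ} (h : relCheck L R P = true) (q : Fin 28) :
    lin (fun q => tcode (bitField L (Nat.mul 16 q) 16)) (vecOf (tcode (bitField R (Nat.mul 16 q) 16))) =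
      (4 : ℕ) • vecOf (tcode (bitField P (Nat.mul 16 q) 16)) := by
  rw [relCheck, forceNat_eq, Bool.and_eq_true] at h
  exact imgEq_spec (fun a ha => Nat.eq_of_beq_eq_true (allFrom_spec h.1 a (Nat.zero_le _) (by omega)))
    (allFrom_spec h.2 q.val (Nat.zero_le _) (by omega))

theorem baseOk_all : allFrom baseOk 3 0 = true := by decide +kernel


theorem cols_id : allFrom (fun q => Nat.beq (nodeCol 253 q) (Nat.mul 4 q)) 28 0 = true := by
  decide +kernel

/-- The columns of a node. -/
noncomputable def nodeCols' (n : ℕ) : ℕ → ℕ := colsOf (nodeCol n)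

theorem nodeCols'_apply (n q : ℕ) :
    nodeCols' n q = tcode (bitField (Data.nodeCols.getD n 0) (Nat.mul 16 q) 16) := by
  simp only [nodeCols', colsOf, nodeCol]

theorem rel_rep {l r p : ℕ}
    (h : relCheck (Data.nodeCols.getD l 0) (Data.nodeCols.getD r 0) (Data.nodeCols.getD p 0) = true)
    (q : Fin 28) :
    lin (nodeCols' l) (vecOf (nodeCols' r q)) = (4 : ℕ) • vecOf (nodeCols' p q) := by
  rw [funext (nodeCols'_apply l), nodeCols'_apply, nodeCols'_apply]
  exact relCheck_spec h q

theorem rep_253 : IsRep (nodeCols' 253) 1 := by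
  intro v
  rw [← rep_one v]
  refine Finset.sum_congr rfl fun q _ => ?_
  show _ • vecOf (tcode (nodeCol 253 q)) = _
  rw [Nat.eq_of_beq_eq_true (allFrom_spec cols_id q.val (Nat.zero_le _) (by omega))]
  rfl

theorem rep_unique {col : ℕ → ℕ} {f g : Equiv.Perm ruLattice} (hf : IsRep col f)
    (hg : IsRep col g) : f = g :=
  Equiv.ext fun v => Subtype.ext (four_inj ((hf v).symm.trans (hg v)))

theorem exists_base {n : ℕ} (h : n < 3) : ∃ f ∈ fourRu, IsRep (nodeCols' n) f := by
  have h := allFrom_spec baseOk_all n (Nat.zero_le _) (by omega)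
  simp only [baseOk, Bool.and_eq_true] at h
  rw [nodeCols']
  exact exists_aut h.1.1 h.1.2
    (fun q hq => mem_of_latOk (allFrom_spec h.2.1 q (Nat.zero_le _) (by omega)))
    (fun k hk => mem_of_latOk (allFrom_spec h.2.2 k (Nat.zero_le _) (by omega)))

attribute [local irreducible] relCheck nodeCols' IsRep in
/-- Every node lies in each group containing the first three. -/
theorem node_mem {M : Subgroup (Equiv.Perm ruLattice)}
    (hM : ∀ n < 3, ∀ f, IsRep (nodeCols' n) f → f ∈ M) :
    ∀ n ≤ 253, ∃ f ∈ M, IsRep (nodeCols' n) f := by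
  intro n
  induction n using Nat.strong_induction_on with
  | _ n ih =>
    intro hn
    rcases Nat.lt_or_ge n 3 with h3 | h3
    · obtain ⟨f, -, hr⟩ := exists_base h3
      exact ⟨f, hM n h3 f hr, hr⟩
    rcases eq_or_lt_of_le hn with rfl | hlt
    · exact ⟨1, one_mem _, rep_253⟩
    have h : relOk (n - 3) = true := by
      by_cases hm : n - 3 < 125
      · exact allFrom_spec rels_cert0 (n - 3) (Nat.zero_le _) (by omega)
      · exact allFrom_spec rels_cert1 (n - 3) (by omega) (by omega)
    rw [relOk] at h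
    obtain ⟨l, r, p, w, he⟩ : ∃ l r p w, Data.nodeRels.getD (n - 3) (0, 0, 0, 0) = (l, r, p, w) :=
      ⟨_, _, _, _, rfl⟩
    rw [he] at h
    simp only [Bool.and_eq_true, Bool.or_eq_true, Nat.blt_eq, forceNat_eq] at h
    obtain ⟨⟨hw, hl⟩, hshape, hchk⟩ := h
    replace hw : w = n := (Nat.eq_of_beq_eq_true hw).trans (show (n - 3) + 3 = n by omega)
    obtain ⟨fl, hfl, hrl⟩ := ih l (by omega) (by omega)
    rcases hshape with ⟨hp, hr⟩ | ⟨hp, hr⟩
    · obtain ⟨fr, hfr, hrr⟩ := ih r (by omega) (by omega)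
      have hp' : p = n := (Nat.eq_of_beq_eq_true hp).trans hw
      subst hp'
      exact ⟨fl * fr, mul_mem hfl hfr, rep_mul (rel_rep hchk) hrl hrr⟩
    · have hp' := Nat.eq_of_beq_eq_true hp
      have hr' : r = n := (Nat.eq_of_beq_eq_true hr).trans hw
      subst hp' hr'
      exact ⟨fl⁻¹, inv_mem hfl, rep_inv (rel_rep hchk) hrl rep_253⟩

/-- Every node is an automorphism. -/
theorem exists_node (n : ℕ) (hn : n ≤ 253) : ∃ f ∈ fourRu, IsRep (nodeCols' n) f :=
  node_mem (fun m hm f hf => by
    obtain ⟨g, hg, hr⟩ := exists_base hm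
    rwa [rep_unique hf hr]) n hn

end Cfsg.Agent.H31.Ru
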