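import Cfsg.Agent.H31.Ru.Nodes
import Cfsg.Agent.H31.Ru.OrderData

/-!
The kernel checks of the stabiliser chain.
-/

set_option autoImplicit false

namespace Cfsg.Agent.H31.Ru

open Cfsg.Spor Cfsg.Agent.H10.Ru Cfsg.Agent.H16

/-- Base point. -/
noncomputable def bpt (k : Nat) : Nat := Data.basePts.getD k 0

/-- Image table of a strong generator. -/
noncomputable def imgT (g : Nat) : PArr :=
  [Data.imgTab0, Data.imgTab1, Data.imgTab2, Data.imgTab3, Data.imgTab4].getD g Data.imgTab0

/-- Schreier tree of a level. -/
noncomputable def orbT (k : Nat) : PArr :=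
  [Data.orbit0, Data.orbit1, Data.orbit2, Data.orbit3, Data.orbit4].getD k Data.orbit0

/-- The node of a strong generator. -/
noncomputable def gnode (g : Nat) : Nat := min (Data.strong.getD g 0) 253

/-- The packed base points. -/
noncomputable def basePack : Nat :=
  Nat.rec (motive := fun _ => Nat) 0 (fun j ih => forceNat ih fun s =>
    Nat.add s (Nat.shiftLeft (packC (tcode (bpt j))) (Nat.mul 600 j))) 5

/-- A packed base point. -/
noncomputable def bP (P j : Nat) : Nat := bitField P (Nat.mul 600 j) 600

/-- The keys defining a class. -/
noncomputable def kPack (P k : Nat) : Nat :=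
  Nat.rec (motive := fun _ => Nat) 0 (fun j ih => forceNat ih fun s =>
    Nat.add s (Nat.shiftLeft (key (tcode (bpt k)) (bP P j)) (Nat.mul 32 j))) 5

/-- Membership of a class. -/
noncomputable def inClassW (P K k i : Nat) : Bool :=
  forceNat (tcode i) fun c =>
    allFrom (fun j => Nat.beq (key c (bP P j)) (bitField K (Nat.mul 32 j) 32)) k 0

/-- Depth in a tree. -/
noncomputable def depthT (t : PArr) (i : Nat) : Nat :=
  Nat.land (Nat.shiftRight (t.get 28 i) 18) 1023

/-- A step of a Schreier tree. -/
noncomputable def stepOk (P K : Nat) (t : PArr) (k root i : Nat) : Bool :=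
  or (not (inClassW P K k i)) (or (Nat.beq i root)
    (forceNat (t.get 28 i) fun e => forceNat (Nat.land e 32767) fun par =>
      forceNat (Nat.land (Nat.shiftRight e 15) 7) fun g =>
        and (and (and (Nat.ble k g) (Nat.blt g 5)) (and (Nat.blt par 16240) (inClassW P K k par)))
          (and (Nat.blt (depthT t par) (depthT t i))
            (imgEq (fun a => (imgT g).get 560 a) (tcode par) (tcode i)))))

/-- The Schreier tree of a level. -/
noncomputable def treeOk (k : Nat) : Bool :=
  forceNat basePack fun P => forceNat (kPack P k) fun K => forceNat (bpt k) fun root =>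
    allFrom (fun i => stepOk P K (orbT k) k root i) 16240 0

/-- The size of a class. -/
noncomputable def classSize (k : Nat) : Nat :=
  forceNat basePack fun P => forceNat (kPack P k) fun K =>
    countFrom (fun i => inClassW P K k i) 16240 0

/-- The image tables. -/
noncomputable def tabOk (g : Nat) : Bool :=
  allFrom (fun a => Nat.beq ((imgT g).get 560 a) (colImg (colsOf (nodeCol (gnode g))) a)) 112 0

/-- The generators fix the earlier base points. -/
noncomputable def fixOk (g : Nat) : Bool :=
  allFrom (fun j => imgEq (fun a => (imgT g).get 560 a) (tcode (bpt j)) (tcode (bpt j))) g 0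

/-- The keys of a vector. -/
noncomputable def tuple (P i : Nat) : Nat :=
  forceNat (tcode i) fun c =>
    Nat.rec (motive := fun _ => Nat) 0 (fun j ih => forceNat ih fun s =>
      Nat.add s (Nat.shiftLeft (key c (bP P j)) (Nat.mul 32 j))) 5

/-- A spanning point. -/
noncomputable def upt (m : Nat) : Nat := Data.uniq.getD m 0

/-- The keys of the spanning points. -/
noncomputable def uPack (P : Nat) : Nat :=
  Nat.rec (motive := fun _ => Nat) 0 (fun m ih => forceNat ih fun s =>
    Nat.add s (Nat.shiftLeft (tuple P (upt m)) (Nat.mul 160 m))) 28

/-- The spanning points are determined by their keys. -/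
noncomputable def uniqOk : Bool :=
  forceNat basePack fun P => forceNat (uPack P) fun U => allFrom (fun i => forceNat (tuple P i) fun T =>
    allFrom (fun m => or (not (Nat.beq T (bitField U (Nat.mul 160 m) 160))) (Nat.beq i (upt m))) 28 0)
      16240 0

/-- Position in the sorted table. -/
noncomputable def posOf (i : Nat) : Nat := Nat.land (Data.sorted.get 28 i) 16383

/-- Entry of the sorted table. -/
noncomputable def ordOf (m : Nat) : Nat := Nat.shiftRight (Data.sorted.get 28 m) 14

/-- The table is sorted strictly. -/
noncomputable def sortedOk : Bool :=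
  and (allFrom (fun i => and (Nat.blt (posOf i) 16240) (Nat.beq (ordOf (posOf i)) i)) 16240 0)
    (allFrom (fun m => Nat.blt (packC (tcode (ordOf m))) (packC (tcode (ordOf (Nat.succ m))))) 16239 0)

/-- Only the multiples of the first base point are fixed above the first level. -/
noncomputable def centOk : Bool :=
  allFrom (fun i => or (Nat.blt i 4) (not (allFrom (fun g => forceNat (tcode i) fun c =>
    imgEq (fun a => (imgT g).get 560 a) c c) 4 1))) 16240 0

end Cfsg.Agent.H31.Ru
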