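import Cfsg.Agent.H31.Ru.Lines
import Cfsg.Agent.H56.RuTits.RuSimple

/-!
The faithful permutation model of the Rudvalis group on 4060 lines: `lineHom`, `lineHom_injective`,
`g0_mem`, `g1_mem`, `card_Ru`, `isSimpleGroup_Ru`.
-/

set_option autoImplicit false

namespace Cfsg.Agent.H31.Ru

theorem isSimpleGroup_Ru : IsSimpleGroup Cfsg.Spor.Ru :=
  (Cfsg.Agent.H56.RuTits.exists_rudvalis_realization' lineHom lineHom_injective g0_mem g1_mem
    card_Ru).1

theorem finite_Ru : Finite Cfsg.Spor.Ru := Nat.finite_of_card_ne_zero (by rw [card_Ru]; norm_num)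

end Cfsg.Agent.H31.Ru
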