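import Cfsg.Agent.H31.Ru.Pack
import Cfsg.Agent.H31.Ru.GroupData

/-!
The checks of the relations between nodes.
-/

set_option autoImplicit false

namespace Cfsg.Agent.H31.Ru

open Cfsg.Agent.H16

/-! Data access. -/

/-- Columns of a node. -/
noncomputable def nodeCol (n q : Nat) : Nat :=
  bitField (Data.nodeCols.getD n 0) (Nat.mul 16 q) 16

/-- Images of spanning vectors under a base node. -/
noncomputable def nodeImg (n k : Nat) : Nat :=
  bitField (Data.spanImgs.getD n 0) (Nat.mul 16 k) 16

/-- A packed table of images of the atoms. -/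
noncomputable def imgPack (col : Nat → Nat) : Nat :=
  Nat.rec (motive := fun _ => Nat) 0 (fun a ih => forceNat ih fun s =>
    Nat.add s (Nat.shiftLeft (colImg col a) (Nat.mul 560 a))) 112

/-- The check of a relation. -/
noncomputable def relCheck (L R P : Nat) : Bool :=
  forceNat (imgPack fun q => tcode (bitField L (Nat.mul 16 q) 16)) fun T =>
    and
      (allFrom (fun a => Nat.beq (bitField T (Nat.mul 560 a) 560)
        (colImg (fun q => tcode (bitField L (Nat.mul 16 q) 16)) a)) 112 0)
      (allFrom (fun q => imgEq (fun a => bitField T (Nat.mul 560 a) 560)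
        (tcode (bitField R (Nat.mul 16 q) 16)) (tcode (bitField P (Nat.mul 16 q) 16))) 28 0)

/-- A relation with its shape. -/
noncomputable def relOk (m : Nat) : Bool :=
  match Data.nodeRels.getD m (0, 0, 0, 0) with
  | (l, r, p, w) => and (and (Nat.beq w (Nat.add m 3)) (Nat.blt l w))
      (and (or (and (Nat.beq p w) (Nat.blt r w)) (and (Nat.beq p 253) (Nat.beq r w)))
        (forceNat (Data.nodeCols.getD l 0) fun L => forceNat (Data.nodeCols.getD r 0) fun R =>
          forceNat (Data.nodeCols.getD p 0) fun P => relCheck L R P))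

end Cfsg.Agent.H31.Ru
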