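import Cfsg.Agent.H31.Ru.Span
import Cfsg.Agent.H31.Ru.MinTables
import Cfsg.Agent.H31.Ru.Engine
import Cfsg.Agent.H10.Ru.Root

/-!
Residues of lattice vectors modulo two, and the test applied to each residue.
-/

set_option autoImplicit false

namespace Cfsg.Agent.H31.Ru

open Cfsg.Spor Cfsg.Agent.H10.Ru Cfsg.Agent.H16

/-- The imaginary part modulo two. -/
def imPar (a : R4) : ZMod 2 := ((a.im.val : ℕ) : ZMod 2)

theorem imPar_add : ∀ a b : R4, imPar (a + b) = imPar a + imPar b := by decide +kernel

theorem imPar_mul : ∀ a b : R4, imPar (a * b) = par4 a * imPar b + imPar a * par4 b := by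
  decide +kernel

/-- The imaginary parities as a homomorphism. -/
def imParHom : R4 →+ ZMod 2 where
  toFun := imPar
  map_zero' := by decide +kernel
  map_add' := imPar_add

/-- The residue code: parity, and twice the imaginary parity. -/
def resOf (a : R4) : ℕ := (a.re.val + a.im.val) % 2 + 2 * (a.im.val % 2)

/-- The shift code. -/
def eOf (a : R4) : ℕ :=
  a.re.val / 2 + 2 * (a.im.val / 2)

/-- Representative of a residue. -/
def resLift (r : ℕ) : R4 :=
  if r % 4 = 1 then ⟨1, 0⟩ else if r % 4 = 2 then ⟨1, 1⟩ else if r % 4 = 3 then ⟨0, 1⟩ else 0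

/-- A doubled shift. -/
def shiftLift (e : ℕ) : R4 := ⟨((2 * (e % 2) : ℕ) : ZMod 4), ((2 * (e / 2 % 2) : ℕ) : ZMod 4)⟩

theorem decomp : ∀ a : R4, resOf a < 4 ∧ eOf a < 4 ∧
    a = resLift (resOf a) + shiftLift (eOf a) := by decide +kernel

/-- Least norm in a residue class modulo four. -/
def low (a : R4) : ℕ :=
  min (a.re.val * a.re.val) ((4 - a.re.val) * (4 - a.re.val)) +
    min (a.im.val * a.im.val) ((4 - a.im.val) * (4 - a.im.val))

/-- The code of a residue modulo four. -/
def code4 (a : R4) : ℕ := a.re.val + 4 * a.im.val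

/-- Least norm in a residue class modulo two. -/
noncomputable def n1 (r : Nat) : Nat := Nat.land (Nat.shiftRight 0x1210 (Nat.mul 4 r)) 15

/-- Cost of a shift. -/
noncomputable def costT (r e : Nat) : Nat :=
  bitField Data.costPack (Nat.mul 4 (Nat.add (Nat.mul 4 r) e)) 4

/-- Code of a shifted residue. -/
noncomputable def codeT (r e : Nat) : Nat :=
  bitField Data.codePack (Nat.mul 4 (Nat.add (Nat.mul 4 r) e)) 4

theorem tables_spec : ∀ a : R4, low a = n1 (resOf a) + costT (resOf a) (eOf a) ∧
    code4 a = codeT (resOf a) (eOf a) := by decide +kernel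

theorem low_le_norm (z : GaussianInt) : (low (red4 z) : ℤ) ≤ z.norm := by
  have key : ∀ a : ℤ, ((min ((a : ZMod 4).val * (a : ZMod 4).val)
      ((4 - (a : ZMod 4).val) * (4 - (a : ZMod 4).val)) : ℕ) : ℤ) ≤ a * a := by
    intro a
    have hv : ((a : ZMod 4).val : ℤ) = a % 4 := ZMod.val_intCast (n := 4) a
    have hlt : (a : ZMod 4).val < 4 := ZMod.val_lt _
    set v := (a : ZMod 4).val
    rcases Int.lt_or_le a 0 with ha | ha
    · refine le_trans (Int.ofNat_le.2 (min_le_right _ _)) ?_
      have h4 : a ≤ (v : ℤ) - 4 := by omega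
      interval_cases v <;> push_cast at h4 ⊢ <;> nlinarith
    · refine le_trans (Int.ofNat_le.2 (min_le_left _ _)) ?_
      have h4 : (v : ℤ) ≤ a := by omega
      interval_cases v <;> push_cast at h4 ⊢ <;> nlinarith
  rw [two_norm]
  have h := add_le_add (key z.re) (key z.im)
  show ((low ⟨(z.re : ZMod 4), (z.im : ZMod 4)⟩ : ℕ) : ℤ) ≤ _
  simp only [low]
  push_cast at h ⊢
  exact h

/-! Syndromes. -/

/-- The value of the `i`th tested condition on one coordinate. -/
def cond (i : Fin 10) (p : RuIdx) (a : R4) : R4 :=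
  pi4 ^ (4 - expo ⟨18 + i.val, by omega⟩) * vMat ⟨18 + i.val, by omega⟩ p * a

/-- The fields of a syndrome. -/
def fld (p : RuIdx) (a : R4) (k : Fin 20) : ℕ :=
  if k.val % 2 = 0 then (cond ⟨k.val / 2, by omega⟩ p a).re.val
  else (cond ⟨k.val / 2, by omega⟩ p a).im.val

/-- Pack the fields. -/
def enc (f : Fin 20 → ℕ) : ℕ := ∑ k, f k * 256 ^ k.val

/-- Syndrome of a residue representative. -/
noncomputable def cst (p r : Nat) : Nat :=
  bitField Data.cstPack (Nat.mul 160 (Nat.add (Nat.mul 4 p) r)) 160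

/-- Syndrome of a shift. -/
noncomputable def wv (p e : Nat) : Nat :=
  bitField Data.wPack (Nat.mul 160 (Nat.add (Nat.mul 4 p) e)) 160

/-- The tested bits of a packed syndrome. -/
noncomputable def bits (x : Nat) : Nat := Nat.land (Nat.shiftRight x 1) Data.ones

set_option maxHeartbeats 4000000 in
theorem cst_spec : ∀ (q : Fin 28) (r : Fin 4), cst q r = enc (fld (idx q) (resLift r)) := by
  decide +kernel

set_option maxHeartbeats 4000000 in
theorem wv_spec : ∀ (q : Fin 28) (e : Fin 4), wv q e = bits (enc (fld (idx q) (shiftLift e))) := by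
  decide +kernel

theorem wv_zero : ∀ q : Fin 28, wv q 0 = 0 := by decide +kernel

set_option maxHeartbeats 4000000 in
theorem shift_even : ∀ (q : Fin 28) (e : Fin 4) (k : Fin 20),
    fld (idx q) (shiftLift e) k % 2 = 0 := by decide +kernel

theorem fld_lt (p : RuIdx) (a : R4) (k : Fin 20) : fld p a k < 4 := by
  unfold fld
  split_ifs <;> exact ZMod.val_lt _

theorem testBit_ones : ∀ n : Fin 160, Data.ones.testBit n.val = decide (n.val % 8 = 0) := by
  decide +kernel

theorem ones_lt : Data.ones < 2 ^ 160 := by decide +kernel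

theorem cond_add (i : Fin 10) (p : RuIdx) (a b : R4) : cond i p (a + b) = cond i p a + cond i p b :=
  mul_add _ _ _

end Cfsg.Agent.H31.Ru
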