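import Cfsg.Agent.H31.Ru.Residue

/-!
Vanishing syndromes as exclusive sums.
-/

set_option autoImplicit false

namespace Cfsg.Agent.H31.Ru

open Cfsg.Spor Cfsg.Agent.H10.Ru Cfsg.Agent.H16

theorem digit_sum : ∀ {n : ℕ} (g : Fin n → ℕ), (∀ k, g k < 256) → ∀ j : Fin n,
    (∑ k, g k * 256 ^ k.val) / 256 ^ j.val % 256 = g j
  | 0, _, _, j => j.elim0
  | n + 1, g, hg, j => by
    rw [Fin.sum_univ_succ]
    simp only [Fin.val_zero, pow_zero, mul_one, Fin.val_succ, pow_succ, ← mul_assoc,
      ← Finset.sum_mul]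
    induction j using Fin.cases with
    | zero =>
      rw [Fin.val_zero, pow_zero, Nat.div_one, Nat.add_mul_mod_self_right, Nat.mod_eq_of_lt (hg 0)]
    | succ j =>
      rw [Fin.val_succ, pow_succ', ← Nat.div_div_eq_div_mul, Nat.add_mul_div_right _ _ (by norm_num),
        Nat.div_eq_of_lt (hg 0), Nat.zero_add]
      exact digit_sum (fun k => g k.succ) (fun k => hg _) j

theorem testBit_bits (f : Fin 20 → ℕ) (hf : ∀ k, f k < 256) (n : ℕ) :
    (bits (enc f)).testBit n =
      if h : n % 8 = 0 ∧ n < 160 then decide (f ⟨n / 8, by omega⟩ / 2 % 2 = 1) else false := by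
  show (((enc f) >>> 1) &&& Data.ones).testBit n = _
  rw [Nat.testBit_and]
  by_cases hn : n < 160
  swap
  · rw [Nat.testBit_lt_two_pow (lt_of_lt_of_le ones_lt (Nat.pow_le_pow_right (by norm_num) (by omega)))]
    rw [Bool.and_false, dif_neg (fun h => hn h.2)]
  rw [show Data.ones.testBit n = decide (n % 8 = 0) from testBit_ones ⟨n, hn⟩]
  by_cases h8 : n % 8 = 0
  swap
  · rw [dif_neg (fun h => h8 h.1)]; simp [h8]
  rw [dif_pos ⟨h8, hn⟩, decide_eq_true h8, Bool.and_true, Nat.testBit_shiftRight]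
  have hd := digit_sum f hf ⟨n / 8, by omega⟩
  rw [← hd]
  show (enc f).testBit (1 + n) = decide (enc f / 256 ^ (n / 8) % 256 / 2 % 2 = 1)
  have e : enc f / 256 ^ (n / 8) = enc f / 2 ^ n := by
    rw [show (256 : ℕ) = 2 ^ 8 by norm_num, ← pow_mul, show 8 * (n / 8) = n by omega]
  rw [e, Nat.testBit_eq_decide_div_mod_eq, add_comm 1 n, pow_succ, ← Nat.div_div_eq_div_mul,
    decide_eq_decide]
  omega

/-- Exclusive sum. -/
def xorList : List ℕ → ℕ
  | [] => 0
  | a :: l => a ^^^ xorList l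

theorem testBit_xorList (n : ℕ) : ∀ l : List ℕ,
    (xorList l).testBit n = decide ((l.map fun a => (a.testBit n).toNat).sum % 2 = 1)
  | [] => by simp [xorList]
  | a :: l => by
    rw [xorList, Nat.testBit_xor, testBit_xorList n l, List.map_cons, List.sum_cons]
    cases a.testBit n <;>
      simp only [Bool.toNat_true, Bool.toNat_false, Bool.false_xor, Bool.true_xor, ← decide_not,
        decide_eq_decide] <;> omega

theorem xorList_perm {l l' : List ℕ} (h : l.Perm l') : xorList l = xorList l' :=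
  Nat.eq_of_testBit_eq fun n => by
    rw [testBit_xorList, testBit_xorList, (h.map _).sum_eq]

theorem vals_zero : ∀ a b : ℕ, (a + b) % 4 = 0 → b % 2 = 0 → a / 2 % 2 = b / 2 % 2 := by omega

theorem val_sum (π : R4 →+ ZMod 4) {ι : Type*} (s : Finset ι) (f g : ι → R4)
    (h : ∑ i ∈ s, (f i + g i) = 0) :
    ((∑ i ∈ s, (π (f i)).val) + ∑ i ∈ s, (π (g i)).val) % 4 = 0 := by
  have e : (((∑ i ∈ s, (π (f i)).val) + ∑ i ∈ s, (π (g i)).val : ℕ) : ZMod 4) = 0 := by
    rw [Nat.cast_add, Nat.cast_sum, Nat.cast_sum]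
    simp only [ZMod.natCast_zmod_val]
    rw [← Finset.sum_add_distrib, ← Finset.sum_congr rfl fun i _ => map_add π (f i) (g i),
      ← map_sum, h, map_zero]
  rw [ZMod.natCast_eq_zero_iff] at e <;> exact Nat.dvd_iff_mod_eq_zero.1 e

theorem val_sum_re {ι : Type*} (s : Finset ι) (f g : ι → R4)
    (h : ∑ i ∈ s, (f i + g i) = 0) :
    ((∑ i ∈ s, (f i).re.val) + ∑ i ∈ s, (g i).re.val) % 4 = 0 :=
  val_sum { toFun := QuadraticAlgebra.re, map_zero' := rfl, map_add' := fun _ _ => rfl } s f g h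

theorem val_sum_im {ι : Type*} (s : Finset ι) (f g : ι → R4)
    (h : ∑ i ∈ s, (f i + g i) = 0) :
    ((∑ i ∈ s, (f i).im.val) + ∑ i ∈ s, (g i).im.val) % 4 = 0 :=
  val_sum { toFun := QuadraticAlgebra.im, map_zero' := rfl, map_add' := fun _ _ => rfl } s f g h

/-- A vanishing syndrome, in bits. -/
theorem bits_target {y : RuIdx → R4} (h : ∀ i, ∑ p, cond i p (y p) = 0) :
    bits (enc fun k => ∑ q : Fin 28, fld (idx q) (resLift (resOf (y (idx q)))) k) =
      xorList (List.ofFn fun q : Fin 28 => wv q (eOf (y (idx q)))) := by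
  have hsum : ∀ i, ∑ q : Fin 28, (cond i (idx q) (resLift (resOf (y (idx q)))) +
      cond i (idx q) (shiftLift (eOf (y (idx q))))) = 0 := by
    intro i
    have hb : Function.Bijective idx :=
      ⟨fun a b e => Fin.ext (by rw [← flat_idx a, e, flat_idx]), fun p => ⟨_, idx_flat p⟩⟩
    refine Eq.trans (Finset.sum_congr rfl fun q _ => ?_)
      ((hb.sum_comp fun p => cond i p (y p)).trans (h i))
    rw [cond, cond, ← mul_add, ← (decomp _).2.2]
    rfl
  have hre : ∀ k : Fin 20, ((∑ q : Fin 28, fld (idx q) (resLift (resOf (y (idx q)))) k) +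
      ∑ q : Fin 28, fld (idx q) (shiftLift (eOf (y (idx q)))) k) % 4 = 0 := by
    intro k
    have e := hsum ⟨k.val / 2, by omega⟩
    rcases Nat.mod_two_eq_zero_or_one k.val with hk | hk
    · simp only [fld, hk, ↓reduceIte]
      exact val_sum_re _ _ _ e
    · simp only [fld, hk, Nat.one_ne_zero, ↓reduceIte]
      exact val_sum_im _ _ _ e
  refine Nat.eq_of_testBit_eq fun n => ?_
  rw [testBit_bits _ (fun k => lt_of_le_of_lt
    (Finset.sum_le_card_nsmul _ _ 3 fun q _ => Nat.le_of_lt_succ (fld_lt _ _ k)) (by simp)),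
    testBit_xorList, List.map_ofFn, List.sum_ofFn]
  simp only [Function.comp_apply]
  have hw : ∀ q : Fin 28, ((wv q (eOf (y (idx q)))).testBit n).toNat =
      if h : n % 8 = 0 ∧ n < 160 then
        fld (idx q) (shiftLift (eOf (y (idx q)))) ⟨n / 8, by omega⟩ / 2 % 2 else 0 := by
    intro q
    rw [wv_spec q ⟨_, (decomp _).2.1⟩, testBit_bits _ fun k => (fld_lt _ _ k).trans (by norm_num)]
    split_ifs with hn
    · have := Nat.mod_two_eq_zero_or_one
        (fld (idx q) (shiftLift (eOf (y (idx q)))) ⟨n / 8, by omega⟩ / 2)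
      rcases this with e | e <;> simp [e]
    · rfl
  rw [Finset.sum_congr rfl fun q _ => hw q]
  by_cases hn : n % 8 = 0 ∧ n < 160
  swap
  · simp [hn]
  simp only [dif_pos hn]
  set k : Fin 20 := ⟨n / 8, by omega⟩
  have hev : ∀ q : Fin 28, fld (idx q) (shiftLift (eOf (y (idx q)))) k % 2 = 0 := fun q =>
    shift_even q ⟨_, (decomp _).2.1⟩ k
  have hlt : ∀ q : Fin 28, fld (idx q) (shiftLift (eOf (y (idx q)))) k / 2 % 2 =
      fld (idx q) (shiftLift (eOf (y (idx q)))) k / 2 := fun q => by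
    have := fld_lt (idx q) (shiftLift (eOf (y (idx q)))) k
    omega
  have hdbl : ∑ q : Fin 28, fld (idx q) (shiftLift (eOf (y (idx q)))) k =
      2 * ∑ q : Fin 28, fld (idx q) (shiftLift (eOf (y (idx q)))) k / 2 % 2 := by
    rw [Finset.mul_sum]
    exact Finset.sum_congr rfl fun q _ => by have := hev q; have := hlt q; omega
  have := hre k
  generalize ∑ q : Fin 28, fld (idx q) (resLift (resOf (y (idx q)))) k = A at *
  generalize ∑ q : Fin 28, fld (idx q) (shiftLift (eOf (y (idx q)))) k = B at *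
  generalize ∑ q : Fin 28, fld (idx q) (shiftLift (eOf (y (idx q)))) k / 2 % 2 = C at *
  rw [decide_eq_decide]
  omega

end Cfsg.Agent.H31.Ru
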