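import Cfsg.Agent.H31.Ru.Chain
import Cfsg.Agent.H31.Ru.CertConn
import Cfsg.Agent.H31.Ru.CertCent

/-!
The scalar automorphisms and the centre.
-/

set_option autoImplicit false

namespace Cfsg.Agent.H31.Ru

open Cfsg.Spor Cfsg.Agent.H10.Ru Cfsg.Agent.H16

/-- Multiplication by the imaginary unit. -/
def iPerm : Equiv.Perm ruLattice where
  toFun := ruI
  invFun v := ruI (ruI (ruI v))
  left_inv v := Subtype.ext (by
    show gI • gI • gI • gI • (v : RuVec) = v
    rw [smul_smul, smul_smul, smul_smul, show gI * gI * gI * gI = 1 by decide, one_smul])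
  right_inv v := Subtype.ext (by
    show gI • gI • gI • gI • (v : RuVec) = v
    rw [smul_smul, smul_smul, smul_smul, show gI * gI * gI * gI = 1 by decide, one_smul])

theorem iPerm_mem : iPerm ∈ fourRu := by
  refine ⟨fun v w => Subtype.ext (smul_add gI (v : RuVec) (w : RuVec)), fun v => rfl, fun v => ?_⟩
  show ruNorm (gI • (v : RuVec)) = ruNorm (v : RuVec)
  simp only [ruNorm, Pi.smul_apply, smul_eq_mul, Zsqrtd.norm_mul]
  simp [show gI.norm = 1 by decide]

theorem iPerm_pow (n : ℕ) (v : ruLattice) :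
    (((iPerm ^ n) v : ruLattice) : RuVec) = gI ^ n • (v : RuVec) := by
  induction n with
  | zero => simp
  | succ n ih =>
    rw [pow_succ', Equiv.Perm.mul_apply, pow_succ', mul_smul, ← ih]
    rfl

theorem iPerm_four : iPerm ^ 4 = 1 := Equiv.ext fun v => Subtype.ext (by
  rw [iPerm_pow, show gI ^ 4 = 1 by decide, one_smul]; rfl)

/-- The scalar as a group element. -/
def iEl : fourRu := ⟨iPerm, iPerm_mem⟩

theorem iEl_comm (f : fourRu) : f * iEl = iEl * f :=
  Subtype.ext (Equiv.ext fun v => f.2.2.1 v)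

theorem iEl_mem_center : iEl ∈ Subgroup.center fourRu :=
  Subgroup.mem_center_iff.2 iEl_comm

theorem rot_eq_pow : ∀ r : Fin 4, rot r.val = gI ^ r.val := by decide

theorem tvec_lt_four {r : ℕ} (hr : r < 4) :
    tvec r = gI ^ r • tvec 0 := by
  have h : ∀ r : Fin 4, ∀ p, tvec r.val p = gI ^ r.val * tvec 0 p := by decide +kernel
  exact funext (h ⟨r, hr⟩)

theorem bL_zero : bL 0 = tL 0 := rfl

theorem iPerm_bL {r : ℕ} (hr : r < 4) : (iPerm ^ r) (bL 0) = tL r :=
  Subtype.ext (by
    rw [iPerm_pow, bL_zero, tL_val (by norm_num), tL_val (by omega), tvec_lt_four hr])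

/-- The converse of an image check. -/
theorem imgEq_complete {col : ℕ → ℕ} {g : ℕ → ℕ} (hg : ∀ a < 112, g a = colImg col a) {c t : ℕ}
    (h : lin col (vecOf c) = 4 • vecOf t) : imgEq g c t = true := by
  have h2 : ((sum16 g c : ℕ) : ℤ) = P56 (lin col (vecOf c)) + 256 * Data.ones56 := by
    rw [sum16_eq, cast_sum_map, List.map_congr_left fun a ha =>
      show (g a : ℤ) = P56 (lin col (atomVec a)) + 16 * Data.ones56 from
        (congrArg Nat.cast (hg a (mem_atoms_lt ha))).trans (colImg_spec col (mem_atoms_lt ha)),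
      sum_map_add_const, length_atoms, vecOf, lin_list, P56_sum, List.map_map, List.map_map]
    simp [Function.comp_def]
    ring
  have h4 : P56 (4 • vecOf t) = 4 * P56 (vecOf t) := by
    rw [show (4 : ℕ) • vecOf t = vecOf t + vecOf t + vecOf t + vecOf t by abel]
    simp only [P56_add]
    ring
  have : ((sum16 g c : ℕ) : ℤ) = ((4 * packC t + 192 * Data.ones56 : ℕ) : ℤ) := by
    rw [h2, h, h4]
    push_cast [packC_spec]
    ring
  show Nat.beq (sum16 g c) (4 * packC t + 192 * Data.ones56) = true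
  rw [Int.ofNat_inj.1 this]
  exact Nat.beq_refl _

/-- An automorphism commuting with the stabiliser moves the first base vector to a multiple. -/
theorem fixed_lt_four {i : ℕ} (hi : i < 16240)
    (h : ∀ g < 5, 1 ≤ g → gen g (tL i) = tL i) : i < 4 := by
  have hc := allFrom_spec cent_cert i (Nat.zero_le _) (by omega)
  rw [Bool.or_eq_true, Nat.blt_eq] at hc
  refine hc.resolve_right fun hn => ?_
  rw [allFrom_intro fun g h1 h2 => ?_] at hn
  · exact Bool.noConfusion hn
  rw [forceNat_eq]
  refine imgEq_complete (tab_spec (by omega)) ?_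
  have e := gen_rep g (tL i)
  rw [h g (by omega) h1, tL_val hi] at e
  exact e

/-- An automorphism with table images, from the first base vector. -/
theorem exists_map_zero {j : ℕ} (hj : j < 16240) : ∃ f : fourRu, f.1 (bL 0) = tL j := by
  obtain ⟨f, hf, e⟩ := reach (k := 0) (by norm_num) hj fun i hi => absurd hi (Nat.not_lt_zero i)
  exact ⟨⟨f, (genGrp_le_stab 0 hf).1⟩, e⟩

theorem center_eq : Subgroup.center fourRu = Subgroup.zpowers iEl := by
  refine le_antisymm (fun z hz => ?_) (Subgroup.zpowers_le.2 iEl_mem_center)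
  obtain ⟨i, hi, -, e⟩ := image_class (k := 0) (f := z.1) ⟨z.2, fun j hj => absurd hj (Nat.not_lt_zero j)⟩
  have hi4 : i < 4 := fixed_lt_four hi fun g hg h1 => by
    have hc := congrArg (fun f : fourRu => f.1 (bL 0))
      (Subgroup.mem_center_iff.1 hz ⟨gen g, gen_mem g⟩)
    simp only [Subgroup.coe_mul, Equiv.Perm.mul_apply] at hc
    rwa [(gen_mem_stab hg h1).2 0 (by norm_num), e] at hc
  have hw : (iEl ^ i)⁻¹ * z = 1 := by
    have hwz : (iEl ^ i)⁻¹ * z ∈ Subgroup.center fourRu :=
      mul_mem (inv_mem (pow_mem iEl_mem_center i)) hz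
    have hb : ((iEl ^ i)⁻¹ * z : fourRu).1 (bL 0) = bL 0 := by
      show (iPerm ^ i)⁻¹ (z.1 (bL 0)) = bL 0
      rw [Equiv.Perm.inv_eq_iff_eq, iPerm_bL hi4, e]
    refine Subtype.ext (eq_one_of_fix ((iEl ^ i)⁻¹ * z).2 fun m => ?_)
    obtain ⟨h, eh⟩ := exists_map_zero (upt_lt m.val)
    have hc := congrArg (fun f : fourRu => f.1 (bL 0)) (Subgroup.mem_center_iff.1 hwz h)
    simp only [Subgroup.coe_mul, Equiv.Perm.mul_apply] at hc hb
    rw [hb, eh] at hc
    exact hc.symm
  rw [inv_mul_eq_one] at hw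
  exact hw ▸ pow_mem (Subgroup.mem_zpowers iEl) i

theorem orderOf_iEl : orderOf iEl = 4 := by
  have h4 : iEl ^ (2 ^ 2) = 1 := Subtype.ext iPerm_four
  have h2 : ¬ iEl ^ (2 ^ 1) = 1 := fun h => by
    have h' := congrArg (fun f : fourRu => ((f.1 (bL 0) : ruLattice) : RuVec) (idx 0)) h
    simp only [SubmonoidClass.coe_pow, Subgroup.coe_pow, OneMemClass.coe_one, Equiv.Perm.one_apply,
      iEl, iPerm_pow] at h'
    rw [bL_zero, tL_val (by norm_num), Pi.smul_apply, smul_eq_mul, show tvec 0 (idx 0) = 4 from (axial_vec 0 (idx 0)).trans (if_pos rfl)] at h'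
    revert h'
    decide
  exact orderOf_eq_prime_pow (p := 2) (n := 1) h2 h4

theorem card_center : Nat.card (Subgroup.center fourRu) = 4 := by
  rw [center_eq, Nat.card_zpowers, orderOf_iEl]

theorem card_Ru : Nat.card Cfsg.Spor.Ru = 145926144000 := by
  have h := Subgroup.card_eq_card_quotient_mul_card_subgroup (Subgroup.center fourRu)
  rw [card_fourRu, card_center] at h
  show Nat.card (fourRu ⧸ Subgroup.center fourRu) = _
  omega

end Cfsg.Agent.H31.Ru
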