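import Mathlib.Init

/-!
Certificate data: spanning vectors of the Rudvalis lattice.
-/

set_option autoImplicit false

namespace Cfsg.Agent.H31.Ru.Data

/-- Packed spanning vectors. -/
def spanAtoms : List Nat :=
  [4454778619889761220324750430175747,
   4536542083602139279098095490728451,
   4455407493731968094035026378883843,
   4494040929996594543321710011220480,
   4290595311299404854678322264801792,
   4330845674243990611144243174048256,
   4331472187654983761105629737026048,
   4371717559849156617883774997398016,
   4534937420880791384327721305932288,
   4412928506996182367126631064175104,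
   4371727444784699784126305958757120,
   4249718531204646224503933935682304,
   4412913786657249603754257717265152,
   4454426809751557853967164683453184,
   4535573741251445165156112680518400,
   4413554924450966182743840416498432,
   4330830876229361625279997973529344,
   4495657933893121350705805581746689,
   4495662847119957877367666536219393,
   4414208907099503854997042016965152,
   4495657934347658275429138374459907,
   4330845712777376359282272244990593,
   4412926050000763924336841333031681,
   4414208849217328016431030965896960,
   4414208848459434026833808426697862,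
   4492783223132520316583187736593152]

/-- Table index and monomial word for each spanning vector. -/
def spanWords : List (Nat × List Nat) :=
  [(1, []),
   (2, []),
   (3, []),
   (5, []),
   (6, []),
   (7, []),
   (8, []),
   (9, []),
   (10, []),
   (11, []),
   (12, []),
   (13, []),
   (14, []),
   (15, []),
   (16, []),
   (17, []),
   (18, []),
   (1, [0]),
   (1, [1]),
   (1, [3]),
   (2, [1]),
   (5, [0]),
   (5, [1]),
   (5, [3]),
   (6, [3]),
   (5, [3, 3])]

/-- Table index and monomial word for a unit multiple of each axis. -/
def axWords : List (Nat × Nat × List Nat) :=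
  [(0, 0, []),
   (1, 0, [0]),
   (1, 0, [1]),
   (1, 0, [0, 1]),
   (0, 0, [3, 3, 3, 3, 3, 3]),
   (1, 0, [0, 3, 3, 3, 3, 3, 3]),
   (1, 0, [1, 3, 3, 3, 3, 3, 3]),
   (1, 0, [0, 1, 3, 3, 3, 3, 3, 3]),
   (0, 0, [3, 3, 3, 3, 3]),
   (1, 0, [0, 3, 3, 3, 3, 3]),
   (1, 0, [1, 3, 3, 3, 3, 3]),
   (1, 0, [0, 1, 3, 3, 3, 3, 3]),
   (0, 0, [3, 3, 3, 3]),
   (1, 0, [0, 3, 3, 3, 3]),
   (1, 0, [1, 3, 3, 3, 3]),
   (1, 0, [0, 1, 3, 3, 3, 3]),
   (0, 0, [3, 3, 3]),
   (1, 0, [0, 3, 3, 3]),
   (1, 0, [1, 3, 3, 3]),
   (1, 0, [0, 1, 3, 3, 3]),
   (0, 0, [3, 3]),
   (1, 0, [0, 3, 3]),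
   (1, 0, [1, 3, 3]),
   (1, 0, [0, 1, 3, 3]),
   (0, 0, [3]),
   (1, 0, [0, 3]),
   (1, 0, [1, 3]),
   (1, 0, [0, 1, 3])]

/-- Coefficients of the adapted basis on the spanning vectors (two bits for each part). -/
def spanCoeff : List Nat :=
  [1,
   4108,
   65548,
   2585535015335428465597995545422,
   659398236437030259675179619,
   2694435965211145671254559532472,
   50485951215456564569588605077,
   2699657088558787423256121353481,
   4016227320414466026761226688882,
   2734088953108602992664607500371,
   50176471518472773863667780918,
   659398236437045532482338718,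
   49556287796529109111249149191,
   198109092507068399384789778191,
   168496685688939790755619276776,
   2585478124729224313505545258050,
   168495698696993802243194853417,
   168361512379831635743043814215,
   198729804521675849900930496404,
   0,
   0,
   0,
   0,
   0,
   0,
   0,
   0,
   0]

end Cfsg.Agent.H31.Ru.Data
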