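import Cfsg.Agent.H31.Ru.Atoms
import Cfsg.Agent.H31.Ru.SpanData

/-!
The congruences describe the lattice.
-/

set_option autoImplicit false

namespace Cfsg.Agent.H31.Ru

open Cfsg.Spor Cfsg.Agent.H10.Ru

/-- The spanning vectors. -/
def spanVec (k : Fin 26) : RuVec := vecOf (Data.spanAtoms.getD k 0)

/-- Coefficients of the adapted basis. -/
def spanCo (j : Fin 28) (k : Fin 26) : R4 :=
  ⟨((Data.spanCoeff.getD j 0 >>> (4 * k.val) % 4 : ℕ) : ZMod 4),
    ((Data.spanCoeff.getD j 0 >>> (4 * k.val + 2) % 4 : ℕ) : ZMod 4)⟩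

theorem table_length : ruTable.length = 20 := rfl

set_option maxHeartbeats 4000000 in
theorem span_word : ∀ k : Fin 26,
    ∀ p, monoWord (Data.spanWords.getD k (0, [])).2
      (ruTable.getD ((Data.spanWords.getD k (0, [])).1 % 20) 0) p = spanVec k p := by
  decide +kernel

set_option maxHeartbeats 4000000 in
theorem ax_word : ∀ k : Fin 28,
    ∀ p, monoWord (Data.axWords.getD k (0, 0, [])).2.2
      (ruTable.getD ((Data.axWords.getD k (0, 0, [])).2.1 % 20) 0) p =
        if flat p = k.val then 4 * rot (Data.axWords.getD k (0, 0, [])).1 else 0 := by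
  decide +kernel

set_option maxHeartbeats 4000000 in
theorem bVec_span : ∀ j p, bVec j p = ∑ k, spanCo j k * red4 (spanVec k p) := by
  decide +kernel

theorem getD_mem (n : ℕ) : ruTable.getD (n % 20) 0 ∈ ruLattice := by
  have h : n % 20 < ruTable.length := by rw [table_length]; omega
  rw [List.getD_eq_getElem _ _ h]
  exact table_mem (List.getElem_mem h)

theorem spanVec_mem (k : Fin 26) : spanVec k ∈ ruLattice := by
  rw [← funext (span_word k)]
  exact monoWord_mem _ (getD_mem _)

theorem four_single_mem (z : GaussianInt) (q : RuIdx) :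
    (fun p => if p = q then 4 * z else 0) ∈ ruLattice := by
  obtain ⟨k, rfl⟩ : ∃ k, idx k = q := ⟨_, idx_flat q⟩
  set r := (Data.axWords.getD k (0, 0, [])).1
  have h : (fun p => if p = idx k then 4 * z else 0) =
      (z * star (rot r)) • monoWord (Data.axWords.getD k (0, 0, [])).2.2
        (ruTable.getD ((Data.axWords.getD k (0, 0, [])).2.1 % 20) 0) := by
    funext p
    rw [Pi.smul_apply, ax_word k p, smul_eq_mul]
    have hp : p = idx k ↔ flat p = k.val :=
      ⟨fun h => h ▸ flat_idx k, fun h => flat_injective (h.trans (flat_idx k).symm)⟩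
    simp only [hp]
    split_ifs
    · have h1 : rot r * star (rot r) = 1 := by
        rw [← Zsqrtd.norm_eq_mul_conj, rot_norm]; rfl
      linear_combination (-4 * z) * h1
    · rw [mul_zero]
  rw [h]
  exact smul_mem_lattice _ (monoWord_mem _ (getD_mem _))

theorem four_mul_mem (y : RuVec) : (fun p => 4 * y p) ∈ ruLattice := by
  have e : (fun p => 4 * y p) = ∑ q, fun p => if p = q then 4 * y q else 0 := by
    funext p
    simp [Finset.sum_apply]
  rw [e]
  exact AddSubgroup.sum_mem _ fun q _ => four_single_mem _ q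

/-- Lift of a residue. -/
def lift4 (a : R4) : GaussianInt := ⟨(a.re.val : ℤ), (a.im.val : ℤ)⟩

theorem red4_lift (a : R4) : red4 (lift4 a) = a := by
  ext <;> simp [red4, lift4]

/-- The congruences suffice. -/
theorem mem_lattice_of_redVec {v : RuVec} (h : redVec v ∈ modS) : v ∈ ruLattice := by
  obtain ⟨d, hd⟩ := exists_coeff h
  set w : RuVec := ∑ j, ∑ k, lift4 (d j * spanCo j k) • spanVec k with hw
  have hwm : w ∈ ruLattice :=
    AddSubgroup.sum_mem _ fun j _ => AddSubgroup.sum_mem _ fun k _ =>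
      smul_mem_lattice _ (spanVec_mem k)
  have hred : ∀ p, red4 (v p) = red4 (w p) := by
    intro p
    have e := congr_fun hd p
    simp only [hw, Finset.sum_apply, Pi.smul_apply, smul_eq_mul] at e ⊢
    rw [show red4 (v p) = redVec v p from rfl, e]
    simp only [map_sum, map_mul, red4_lift, bVec_span, Finset.mul_sum, mul_assoc]
  have hdiv : ∀ p, ∃ y : GaussianInt, v p - w p = 4 * y := by
    intro p
    have h4 : red4 (v p - w p) = 0 := by rw [map_sub, hred, sub_self]
    have hre : (((v p - w p).re : ℤ) : ZMod 4) = 0 := congrArg QuadraticAlgebra.re h4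
    have him : (((v p - w p).im : ℤ) : ZMod 4) = 0 := congrArg QuadraticAlgebra.im h4
    obtain ⟨a, ha⟩ := (ZMod.intCast_zmod_eq_zero_iff_dvd _ 4).1 hre
    obtain ⟨b, hb⟩ := (ZMod.intCast_zmod_eq_zero_iff_dvd _ 4).1 him
    refine ⟨⟨a, b⟩, Zsqrtd.ext ?_ ?_⟩
    · rw [ha]; simp
    · rw [hb]; simp
  choose y hy using hdiv
  have : v = w + fun p => 4 * y p := funext fun p => by
    rw [Pi.add_apply, ← hy p]; ring
  rw [this]
  exact add_mem hwm (four_mul_mem y)

theorem mem_lattice_iff {v : RuVec} : v ∈ ruLattice ↔ redVec v ∈ modS :=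
  ⟨redVec_mem, mem_lattice_of_redVec⟩

end Cfsg.Agent.H31.Ru
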