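import Cfsg.Agent.H31.Ru.CertSmall
import Cfsg.Agent.H31.Ru.CertTree0
import Cfsg.Agent.H31.Ru.CertSorted

/-!
The strong generators, and the table as a set of lattice vectors.
-/

set_option autoImplicit false

namespace Cfsg.Agent.H31.Ru

open Cfsg.Spor Cfsg.Agent.H10.Ru Cfsg.Agent.H16

/-- A strong generator. -/
noncomputable def gen (g : ℕ) : Equiv.Perm ruLattice :=
  Classical.choose (exists_node (gnode g) (min_le_right _ _))

theorem gen_mem (g : ℕ) : gen g ∈ fourRu :=
  (Classical.choose_spec (exists_node (gnode g) (min_le_right _ _))).1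

theorem gen_rep (g : ℕ) : IsRep (colsOf (nodeCol (gnode g))) (gen g) :=
  (Classical.choose_spec (exists_node (gnode g) (min_le_right _ _))).2

theorem tab_spec {g : ℕ} (hg : g < 5) (a : ℕ) (ha : a < 112) :
    (imgT g).get 560 a = colImg (colsOf (nodeCol (gnode g))) a := by
  have h := allFrom_spec tab_cert g (Nat.zero_le _) (by omega)
  rw [Bool.and_eq_true] at h
  exact Nat.eq_of_beq_eq_true (allFrom_spec h.1 a (Nat.zero_le _) (by omega))

/-- An image check gives an image. -/
theorem gen_image {g : ℕ} (hg : g < 5) {c t : ℕ}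
    (h : imgEq (fun a => (imgT g).get 560 a) c t = true) {v : ruLattice}
    (hv : (v : RuVec) = vecOf c) : ((gen g v : ruLattice) : RuVec) = vecOf t := by
  refine four_inj ?_
  rw [← gen_rep g v, hv]
  exact imgEq_spec (tab_spec hg) h

theorem bpt_zero : bpt 0 = 0 := rfl

theorem bP_eq {j : ℕ} (hj : j < 5) : bP basePack j = packC (tcode (bpt j)) :=
  Nat.eq_of_beq_eq_true (allFrom_spec basePack_cert j (Nat.zero_le _) (by omega))

theorem inClassW_zero (P K i : ℕ) : inClassW P K 0 i = true := by
  rw [inClassW, forceNat_eq]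
  rfl

/-- One step of a Schreier tree. -/
theorem step_spec {k : ℕ} (h : treeOk k = true) {i : ℕ} (hi : i < 16240)
    (hc : inClassW basePack (kPack basePack k) k i = true) (hne : i ≠ bpt k) :
    ∃ g par, k ≤ g ∧ g < 5 ∧ par < 16240 ∧
      inClassW basePack (kPack basePack k) k par = true ∧
      depthT (orbT k) par < depthT (orbT k) i ∧
      imgEq (fun a => (imgT g).get 560 a) (tcode par) (tcode i) = true := by
  rw [treeOk, forceNat_eq, forceNat_eq, forceNat_eq] at h
  have hs := allFrom_spec h i (Nat.zero_le _) (by omega)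
  rw [stepOk, forceNat_eq, forceNat_eq, forceNat_eq, hc] at hs
  simp only [Bool.not_true, Bool.false_or, Bool.or_eq_true, Bool.and_eq_true, Nat.blt_eq] at hs
  rcases hs with hs | ⟨⟨⟨hk, hg⟩, hp, hpc⟩, hd, him⟩
  · exact absurd (Nat.eq_of_beq_eq_true hs) hne
  · exact ⟨_, _, Nat.le_of_ble_eq_true hk, hg, hp, hpc, hd, him⟩

theorem tvec_base_zero : ∀ p, tvec 0 p = if p = idx 0 then 4 else 0 := fun p => axial_vec 0 p

/-- Every table vector is in the lattice and has norm sixteen. -/
theorem tvec_spec {i : ℕ} (hi : i < 16240) : tvec i ∈ ruLattice ∧ ruNorm (tvec i) = 16 := by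
  induction hd : depthT (orbT 0) i using Nat.strong_induction_on generalizing i with
  | _ d ih =>
    by_cases h0 : i = bpt 0
    · subst h0
      have e : tvec (bpt 0) = fun p => if p = idx 0 then 4 * 1 else 0 := by
        funext p
        rw [bpt_zero, tvec_base_zero, mul_one]
      rw [e]
      refine ⟨four_single_mem 1 (idx 0), ?_⟩
      simp [ruNorm, apply_ite Zsqrtd.norm]
      rfl
    · obtain ⟨g, par, -, hg, hp, -, hdd, him⟩ :=
        step_spec tree0_cert hi (inClassW_zero _ _ _) h0
      obtain ⟨hm, hn⟩ := ih _ (hd ▸ hdd) hp rfl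
      have e := gen_image hg him (v := ⟨tvec par, hm⟩) rfl
      rw [tvec, ← e]
      exact ⟨(gen g _).2, ((gen_mem g).2.2 _).trans hn⟩

/-- The lattice vector with a given index. -/
noncomputable def tL (i : ℕ) : ruLattice :=
  if h : i < 16240 then ⟨tvec i, (tvec_spec h).1⟩ else 0

theorem tL_val {i : ℕ} (hi : i < 16240) : ((tL i : ruLattice) : RuVec) = tvec i := by
  rw [tL, dif_pos hi]

theorem tvec_inj {i j : ℕ} (hi : i < 16240) (hj : j < 16240) (h : tvec i = tvec j) : i = j := by
  have hc := sorted_cert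
  rw [sortedOk, Bool.and_eq_true] at hc
  have hpo : ∀ n < 16240, posOf n < 16240 ∧ ordOf (posOf n) = n := fun n hn => by
    have e := allFrom_spec hc.1 n (Nat.zero_le _) (by omega)
    rw [Bool.and_eq_true, Nat.blt_eq] at e
    exact ⟨e.1, Nat.eq_of_beq_eq_true e.2⟩
  set P : ℕ → ℕ := fun m => packC (tcode (ordOf m)) with hP
  have step : ∀ m < 16239, P m < P (m + 1) := fun m hm => by
    have e := allFrom_spec hc.2 m (Nat.zero_le _) (by omega)
    simpa [hP, Nat.blt_eq] using e
  have mono : ∀ n m, m < n → n < 16240 → P m < P n := by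
    intro n
    induction n with
    | zero => omega
    | succ n ih =>
      intro m hm hn
      rcases Nat.lt_succ_iff_lt_or_eq.1 hm with hm | rfl
      exacts [(ih m hm (by omega)).trans (step n (by omega)), step m (by omega)]
  obtain ⟨hpi, hoi⟩ := hpo i hi
  obtain ⟨hpj, hoj⟩ := hpo j hj
  have he : P (posOf i) = P (posOf j) := by
    simp only [hP, hoi, hoj]
    exact Int.ofNat_inj.1 ((packC_spec _).trans ((by rw [show vecOf (tcode i) = vecOf (tcode j) from h]
      : _ = _).trans (packC_spec _).symm))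
  rcases lt_trichotomy (posOf i) (posOf j) with hl | hl | hl
  · exact absurd he (mono _ _ hl hpj).ne
  · rw [← hoi, ← hoj, hl]
  · exact absurd he (mono _ _ hl hpi).ne'

theorem tL_inj {i j : ℕ} (hi : i < 16240) (hj : j < 16240) (h : tL i = tL j) : i = j :=
  tvec_inj hi hj ((tL_val hi).symm.trans ((congrArg Subtype.val h).trans (tL_val hj)))

/-- A vector of norm sixteen is in the table. -/
theorem exists_tL {v : ruLattice} (hn : ruNorm (v : RuVec) = 16) :
    ∃ i < 16240, v = tL i := by
  obtain ⟨i, hi, e⟩ := exists_tvec v.2 hn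
  exact ⟨i, hi, Subtype.ext (e.trans (tL_val hi).symm)⟩

theorem tL_norm {i : ℕ} (hi : i < 16240) : ruNorm ((tL i : ruLattice) : RuVec) = 16 := by
  rw [tL_val hi]
  exact (tvec_spec hi).2

/-- An image check, for table entries. -/
theorem gen_tL {g : ℕ} (hg : g < 5) {i j : ℕ} (hi : i < 16240) (hj : j < 16240)
    (h : imgEq (fun a => (imgT g).get 560 a) (tcode i) (tcode j) = true) :
    gen g (tL i) = tL j :=
  Subtype.ext ((gen_image hg h (tL_val hi)).trans (tL_val hj).symm)

end Cfsg.Agent.H31.Ru
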