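import Cfsg.Agent.H31.Ru.OrbitDefs

/-!
The spanning points are determined by their keys.
-/

set_option autoImplicit false

namespace Cfsg.Agent.H31.Ru

open Cfsg.Agent.H16

/-- The check of one vector against the spanning points, given the packed keys. -/
noncomputable def uniqAt (P U i : Nat) : Bool :=
  forceNat (tuple P i) fun T =>
    allFrom (fun m => or (not (Nat.beq T (bitField U (Nat.mul 160 m) 160))) (Nat.beq i (upt m))) 28 0

/-- The check of one vector against the spanning points. -/
noncomputable def uniqRow (i : Nat) : Bool :=
  forceNat basePack fun P => forceNat (uPack P) fun U => uniqAt P U i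

/-- The check of a block. -/
noncomputable def uniqBlock (lo n : Nat) : Bool :=
  forceNat basePack fun P => forceNat (uPack P) fun U => allFrom (fun i => uniqAt P U i) n lo

theorem uniqRow_of_block {lo n : Nat} (h : uniqBlock lo n = true) {i : Nat} (h1 : lo ≤ i)
    (h2 : i < lo + n) : uniqRow i = true := by
  rw [uniqBlock, forceNat_eq, forceNat_eq] at h
  rw [uniqRow, forceNat_eq, forceNat_eq]
  exact allFrom_spec h i h1 h2

end Cfsg.Agent.H31.Ru
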